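import Cfsg.Agent.BC85.Star.NilpotentMain
import Cfsg.Agent.Lib.BlocksCore.DefectZero

/-!
# Height zero characters of a nilpotent block have one degree

In a nilpotent block `B` with defect group `D` every character is `λ * χ₀` for a character
`λ` of `D`, of degree `λ(1) χ₀(1)`; height zero forces `λ` to be linear.
-/

namespace Cfsg.Agent.KB64

open BlocksCore BlocksDefect BC85 BC85.Star
open scoped Classical ComplexConjugate

universe u

variable {G : Type u} [Group G] [Fintype G] {p : ℕ} [Fact p.Prime] {M : Ideal AlgInt}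
  {B : Set (IrrCharacter G)}

theorem same_degree_of_nilpotent (hM : IsPModular p M) (hnil : IsNilpotentBlock p M B) :
    ∃ d : ℕ, ∀ χ : IrrCharacter G, χ ∈ B → blockHeight p B (χ : G → ℂ) = 0 →
      charDegree (χ : G → ℂ) = d := by
  have := BlocksCore.isPrime hM
  obtain ⟨P, hP⟩ := exists_isDefectGroup hM hnil.1
  obtain ⟨e, hmax⟩ := exists_maximal_of_defect hM hnil.1 hP
  obtain ⟨χ₀, hχ₀, h0⟩ := exists_height_zero hM hnil.1
  obtain ⟨Ψ, hΨ⟩ := exists_nilEquiv hM hmax hnil hχ₀ h0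
  refine ⟨charDegree (χ₀ : G → ℂ), fun χ hχ hχ0 => ?_⟩
  obtain ⟨θ, hθ⟩ := Ψ.surjective ⟨χ, hχ⟩
  have hdeg : charDegree (((Ψ θ : B) : IrrCharacter G) : G → ℂ) =
      charDegree (θ : P → ℂ) * charDegree (χ₀ : G → ℂ) := by
    have h : (((Ψ θ : B) : IrrCharacter G) : G → ℂ) 1 = (θ : P → ℂ) 1 * (χ₀ : G → ℂ) 1 := by
      rw [hΨ θ]
      exact starMul_regular hM hmax (isPairStable_class hM hmax hnil (irr_class θ)) hχ₀
        (by simpa using (Fact.out : p.Prime).ne_one)
    rw [irr_one_eq, irr_one_eq, irr_one_eq] at h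
    exact_mod_cast h
  rw [hθ] at hdeg
  change charDegree (χ : G → ℂ) = _ at hdeg
  have hmin : sInf ((fun ψ : IrrCharacter G => (charDegree (ψ : G → ℂ)).factorization p) '' B) =
      (charDegree (χ₀ : G → ℂ)).factorization p := by
    refine le_antisymm (Nat.sInf_le ⟨χ₀, hχ₀, rfl⟩) ?_
    exact Nat.sub_eq_zero_iff_le.mp h0
  have hθ0 : (charDegree (θ : P → ℂ)).factorization p = 0 := by
    have h1 := hχ0
    rw [blockHeight, hmin, hdeg, Nat.factorization_mul (BlocksCore.charDegree_pos θ).ne'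
      (BlocksCore.charDegree_pos χ₀).ne', Finsupp.add_apply, Nat.add_sub_cancel] at h1
    exact h1
  obtain ⟨n, hn⟩ := IsPGroup.iff_card.mp (isPGroup_of_isDefectGroup hP)
  have hdvd : charDegree (θ : P → ℂ) ∣ p ^ n := hn ▸ BlocksCore.charDegree_dvd_card θ
  obtain ⟨k, -, hk⟩ := (Nat.dvd_prime_pow Fact.out).mp hdvd
  have hk0 : k = 0 := by
    rw [hk, Nat.Prime.factorization_pow Fact.out, Finsupp.single_eq_same] at hθ0
    exact hθ0
  rw [hdeg, hk, hk0, pow_zero, one_mul]

end Cfsg.Agent.KB64
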