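import Mathlib

/-!
# Matrices over the prime field from an action on an elementary abelian group
-/

set_option autoImplicit false
set_option linter.style.haveILetI false

namespace Cfsg.Agent.KB64

variable {p : ℕ} [hp : Fact p.Prime]

/-- A faithful action on an elementary abelian group gives matrices over the prime field. -/
theorem exists_gl {W : Type} [CommGroup W] [Finite W] (hexp : ∀ x : W, x ^ p = 1) {n : ℕ}
    (hn : Nat.card W = p ^ n) {K : Type} [Group K] (α : K →* MulAut W) (hα : Function.Injective α) :
    ∃ φ : K →* GL (Fin n) (ZMod p), Function.Injective φ := by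
  have hexp' : ∀ x : Additive W, p • x = 0 := fun x => by
    apply Additive.toMul.injective
    rw [toMul_nsmul]
    exact hexp _
  letI := AddCommGroup.zmodModule (n := p) hexp'
  haveI : Module.Finite (ZMod p) (Additive W) := Module.Finite.of_finite
  have hfr : Module.finrank (ZMod p) (Additive W) = n := by
    have h1 := Module.natCard_eq_pow_finrank (K := ZMod p) (V := Additive W)
    rw [Nat.card_zmod, show Nat.card (Additive W) = p ^ n from
      (Nat.card_congr Additive.toMul).trans hn] at h1
    exact (Nat.pow_right_injective hp.out.two_le h1).symm
  let lin : K →* Module.End (ZMod p) (Additive W) :=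
    { toFun := fun k => (MonoidHom.toAdditive (α k).toMonoidHom).toZModLinearMap p
      map_one' := LinearMap.ext fun x => by
        simp

      map_mul' := fun a b => LinearMap.ext fun x => by
        show Additive.ofMul (α (a * b) x.toMul) = Additive.ofMul (α a (α b x.toMul))
        rw [map_mul, MulAut.mul_apply] }
  have hlin : Function.Injective lin := fun a b hab => hα (MulEquiv.ext fun w => by
    exact congrArg Additive.toMul (LinearMap.congr_fun hab (Additive.ofMul w)))
  let bs := Module.finBasisOfFinrankEq (ZMod p) (Additive W) hfr
  let mat : K →* Matrix (Fin n) (Fin n) (ZMod p) :=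
    (LinearMap.toMatrixAlgEquiv bs : _ →* _).comp lin
  have hmat : Function.Injective mat := (LinearMap.toMatrixAlgEquiv bs).injective.comp hlin
  exact ⟨mat.toHomUnits, fun a b hab => hmat (congrArg Units.val hab)⟩

end Cfsg.Agent.KB64
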