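import Cfsg.Agent.KB64.Main
import Cfsg.Agent.Lib.Solvable.Hall
import Cfsg.Agent.Lib.Coprime.Action
import Cfsg.Agent.OddLocal44.Stability
import Cfsg.Agent.Lib.PGroup.Basic
import Cfsg.Agent.Lib.Fitting

/-!
# Classes of a solvable group with trivial `O_{p'}`
-/

set_option autoImplicit false
set_option linter.style.haveILetI false

open scoped Classical commutatorElement

namespace Cfsg.Agent.KB64

open Cfsg.Agent.CG26.Symp (kk)
open Cfsg.Agent.Thompson

variable {p : ℕ} [hp : Fact p.Prime] {G : Type} [Group G] [Finite G]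

/-- A solvable group with `O_{p'} = 1` and Sylow `p`-subgroups of order `p ^ d` with `d > 0` has at
most `3 ^ (d - 1) * p ^ d` classes. -/
theorem three_mul_kk_group (hsol : Group.IsSolvable G) (hO : Cfsg.pPrimeCore p G = ⊥) {d : ℕ}
    (hd : (Nat.card G).factorization p = d) (hd0 : 0 < d) : 3 * kk G ≤ p ^ d * 3 ^ d := by
  haveI := hsol
  set U := Cfsg.pCore p G with hU
  haveI hUn : U.Normal := Fitting.pCore_normal p
  have hUp : IsPGroup p U := isPGroup_pCore
  have hCU : Subgroup.centralizer (U : Set G) ≤ U :=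
    centralizer_pCore_le OddLocal44.isPSolvable_of_isSolvable hO
  have hUne : U ≠ ⊥ := by
    intro h
    rw [h] at hCU
    have htop : (⊤ : Subgroup G) ≤ ⊥ := fun g _ =>
      hCU (Subgroup.mem_centralizer_iff.mpr fun u hu => by
        rw [Subgroup.mem_bot.mp hu, one_mul, mul_one])
    have : Nat.card G = 1 := by
      rw [← Subgroup.card_top (G := G), le_bot_iff.mp htop, Subgroup.card_bot]
    rw [this, Nat.factorization_one] at hd
    simp at hd
    omega
  set Φ := OddLocal43.frattiniOf U with hΦdef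
  have hΦU : Φ ≤ U := OddLocal43.frattiniOf_le U
  haveI hΦn : Φ.Normal := Fitting.normal_map_subtype_of_characteristic (frattini U)
  have hΦp : IsPGroup p Φ := hUp.to_le hΦU
  set π := QuotientGroup.mk' Φ with hπ
  have hπs : Function.Surjective π := QuotientGroup.mk'_surjective Φ
  set V := U.map π with hVdef
  haveI hVn : V.Normal := hUn.map π hπs
  obtain ⟨a, hΦc⟩ := IsPGroup.iff_card.mp hΦp
  obtain ⟨n, hVc⟩ := IsPGroup.iff_card.mp (hUp.map π)
  -- a Hall complement in the quotient
  set e := (Nat.card (G ⧸ Φ)).factorization p with he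
  have hne : Nat.card (G ⧸ Φ) ≠ 0 := Nat.card_pos.ne'
  obtain ⟨K, hK⟩ := Cfsg.Agent.Solvable.exists_hall (G := G ⧸ Φ)
    (m := Nat.card (G ⧸ Φ) / p ^ e) (n := p ^ e)
    (Nat.div_mul_cancel (Nat.ordProj_dvd _ _)).symm
    ((Nat.coprime_ordCompl hp.out hne).symm.pow_right e)
  have hKp : ¬ p ∣ Nat.card K := by
    rw [hK]
    exact Nat.not_dvd_ordCompl hp.out hne
  have hde : d = e + a := by
    rw [← hd, Subgroup.card_eq_card_quotient_mul_card_subgroup Φ,
      Nat.factorization_mul hne Nat.card_pos.ne', Finsupp.add_apply, ← he, hΦc,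
      hp.out.factorization_pow, Finsupp.single_eq_same]
  set Y := V ⊔ K with hY
  have hVY : V ≤ Y := le_sup_left
  have hdisj : V ⊓ K = ⊥ := Subgroup.inf_eq_bot_of_coprime (by
    rw [hVc]
    exact (hp.out.coprime_iff_not_dvd.mpr hKp).pow_left n)
  have hrel : V.relIndex Y = Nat.card K := by
    rw [hY, Subgroup.relIndex_sup_left, ← Subgroup.inf_relIndex_right, hdisj,
      Subgroup.relIndex_bot_left]
  have hVYc : Nat.card (V.subgroupOf Y) = Nat.card V :=
    Nat.card_congr (Subgroup.subgroupOfEquivOfLe hVY).toEquiv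
  have hself : Subgroup.centralizer (V : Set (G ⧸ Φ)) ≤ V := by
    set C := Subgroup.centralizer (V : Set (G ⧸ Φ))
    have hg : ∀ g : G, π g ∈ C → (orderOf g).Coprime p → g = 1 := by
      intro g hgC hcop
      have hgU : g ∈ U := by
        refine hCU ?_
        refine Cfsg.Agent.Coprime.le_centralizer_of_frattini (Subgroup.zpowers g) U
          (Subgroup.normalizer_eq_top U ▸ le_top) ?_ ?_ (Subgroup.mem_zpowers g)
        · obtain ⟨b, hb⟩ := IsPGroup.iff_card.mp (hUp.to_subgroup (frattini U))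
          rw [Nat.card_zpowers, hb]
          exact hcop.pow_right b
        · rintro x hx k hk
          refine (QuotientGroup.eq_one_iff (N := Φ) _).mp ?_
          show π (x * k * x⁻¹ * k⁻¹) = 1
          have hxC : π x ∈ C := by
            obtain ⟨i, rfl⟩ := Subgroup.mem_zpowers_iff.mp hx
            rw [map_zpow]
            exact zpow_mem hgC i
          simp only [map_mul, map_inv]
          rw [← Subgroup.mem_centralizer_iff.mp hxC _ (Subgroup.mem_map_of_mem π hk)]
          group
      obtain ⟨k, hk⟩ := hUp ⟨g, hgU⟩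
      have h1 : g ^ p ^ k = 1 := by simpa using congrArg Subtype.val hk
      have h2 := Nat.dvd_gcd (dvd_refl (orderOf g)) (orderOf_dvd_of_pow_eq_one h1)
      rwa [hcop.pow_right k, Nat.dvd_one, orderOf_eq_one_iff] at h2
    have hCp : IsPGroup p C := by
      rintro ⟨y, hy⟩
      obtain ⟨g, rfl⟩ := hπs y
      refine ⟨(orderOf g).factorization p, Subtype.ext ?_⟩
      set b := (orderOf g).factorization p
      have h1 := hg (g ^ p ^ b) (by rw [map_pow]; exact pow_mem hy _) (by
        rw [orderOf_pow_of_dvd (pow_ne_zero _ hp.out.ne_zero) (Nat.ordProj_dvd _ _)]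
        exact (Nat.coprime_ordCompl hp.out (orderOf_pos g).ne').symm)
      show π g ^ p ^ b = 1
      rw [← map_pow, h1, map_one]
    intro y hy
    obtain ⟨g, rfl⟩ := hπs y
    refine Subgroup.mem_map_of_mem π (le_pCore (inferInstance : (C.comap π).Normal) ?_ hy)
    exact hCp.comap_of_ker_isPGroup π (by rw [hπ, QuotientGroup.ker_mk']; exact hΦp)
  have hhyp : Hyp p (V.subgroupOf Y) := by
    refine ⟨inferInstance, inferInstance, ?_, ?_, ?_⟩
    · rintro v ⟨u, hu, huv⟩
      apply Subtype.ext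
      show ((v : G ⧸ Φ)) ^ p = 1
      rw [show (v : G ⧸ Φ) = π u from huv.symm, ← map_pow]
      exact (QuotientGroup.eq_one_iff _).mpr (OddLocal43.pow_mem_frattiniOf hUp hu)
    · show ¬ p ∣ V.relIndex Y
      rwa [hrel]
    · refine le_antisymm (fun l hl => ?_) (fun l hl => Subgroup.mem_centralizer_iff.mpr ?_)
      · exact hself (Subgroup.mem_centralizer_iff.mpr fun v hv =>
          congrArg Subtype.val (Subgroup.mem_centralizer_iff.mp hl ⟨v, hVY hv⟩ hv))
      · intro w hw
        apply Subtype.ext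
        obtain ⟨u, hu, huw⟩ := hw
        obtain ⟨u', hu', hul⟩ := hl
        show (w : G ⧸ Φ) * l = l * w
        rw [show (w : G ⧸ Φ) = π u from huw.symm, show (l : G ⧸ Φ) = π u' from hul.symm,
          ← map_mul, ← map_mul]
        refine QuotientGroup.eq.mpr ?_
        have h1 : ⁅u'⁻¹, u⁻¹⁆ ∈ Φ := by
          have hn := hUp.isNilpotent
          have h2 : (⁅(⟨u', hu'⟩ : U)⁻¹, (⟨u, hu⟩ : U)⁻¹⁆) ∈ frattini U :=
            PGroup.commutator_le_frattini hUp (Subgroup.commutator_mem_commutator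
              (Subgroup.mem_top _) (Subgroup.mem_top _))
          exact ⟨_, h2, rfl⟩
        simpa [commutatorElement_def, mul_assoc] using h1
  have hne0 : V.subgroupOf Y ≠ ⊥ := by
    intro h
    have h1 : V = ⊥ := by
      rwa [Subgroup.subgroupOf_eq_bot, disjoint_iff, inf_eq_left.mpr hVY] at h
    refine (OddLocal43.frattiniOf_lt hUne).not_ge ?_
    rw [hVdef, Subgroup.map_eq_bot_iff, hπ, QuotientGroup.ker_mk'] at h1
    exact h1
  have hY3 := three_mul_kk_le hhyp hne0 (hVYc.trans hVc)
  rw [hVYc, hVc] at hY3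
  have hidx : Y.index * p ^ n = p ^ e := by
    have h1 := Y.card_mul_index
    have h2 : Nat.card V * V.relIndex Y = Nat.card Y := by
      rw [← Subgroup.relIndex_bot_left V, Subgroup.relIndex_mul_relIndex _ _ _ bot_le hVY,
        Subgroup.relIndex_bot_left]
    rw [← h2, hrel, hVc, hK] at h1
    refine Nat.eq_of_mul_eq_mul_left (Nat.ordCompl_pos p hne) ?_
    calc Nat.card (G ⧸ Φ) / p ^ e * (Y.index * p ^ n)
        = p ^ n * (Nat.card (G ⧸ Φ) / p ^ e) * Y.index := by ring
      _ = Nat.card (G ⧸ Φ) := h1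
      _ = _ := (Nat.div_mul_cancel (Nat.ordProj_dvd _ _)).symm
  have hnd : n ≤ d := by
    have : p ^ n ∣ p ^ e := Dvd.intro_left _ hidx
    have := Nat.pow_dvd_pow_iff_le_right hp.out.one_lt |>.mp this
    omega
  calc 3 * kk G ≤ 3 * (kk Φ * kk (G ⧸ Φ)) := Nat.mul_le_mul_left _ (Cfsg.Agent.S4201.result Φ)
    _ ≤ 3 * (p ^ a * (Y.index * kk Y)) := by
        gcongr
        · exact (CG26.Symp.kk_le_card Φ).trans hΦc.le
        · exact (Cfsg.Agent.S4200.result Y).2.1
    _ = p ^ a * Y.index * (3 * kk Y) := by ring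
    _ ≤ p ^ a * Y.index * (p ^ n * 3 ^ n) := Nat.mul_le_mul_left _ hY3
    _ = p ^ d * 3 ^ n := by rw [hde, pow_add, ← hidx]; ring
    _ ≤ p ^ d * 3 ^ d := Nat.mul_le_mul_left _ (Nat.pow_le_pow_right (by norm_num) hnd)

end Cfsg.Agent.KB64
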