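import Mathlib
import Cfsg.Agent.Lib.Fitting.Minimal

/-!
# Nilpotent groups whose derived subgroup has cyclic centre
-/

set_option autoImplicit false
set_option linter.style.haveILetI false

namespace Cfsg.Agent.KB64

open scoped commutatorElement

/-- An integer exponent adjusted to be congruent to one modulo a prime fixed pointwise. -/
theorem exists_exp {Z : Type*} [Group Z] [Finite Z] {q : ℕ} (hq : q.Prime) (w : Z) (m : ℤ)
    (hfix : ∀ z : Z, z ^ q = 1 → z ^ m = z) :
    ∃ t : ℤ, w ^ m = w ^ ((q : ℤ) * t + 1) := by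
  by_cases hd : q ∣ orderOf w
  · obtain ⟨k, hk⟩ := hd
    have hk0 : k ≠ 0 := fun h => (orderOf_pos w).ne' (by rw [hk, h, mul_zero])
    have hzo : orderOf (w ^ k) = q := by
      rw [orderOf_pow_of_dvd hk0 ⟨q, by rw [hk, mul_comm]⟩, hk, Nat.mul_div_cancel _ (by omega)]
    have h1 := hfix (w ^ k) (by rw [← hzo, pow_orderOf_eq_one])
    have h2 : (q : ℤ) ∣ m - 1 := by
      rw [← hzo, orderOf_dvd_iff_zpow_eq_one, zpow_sub, h1, zpow_one, mul_inv_cancel]
    obtain ⟨t, ht⟩ := h2
    exact ⟨t, by rw [show (q : ℤ) * t + 1 = m by omega]⟩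
  · have hc : Nat.Coprime q (orderOf w) := hq.coprime_iff_not_dvd.mpr hd
    have hb : (q : ℤ) * Nat.gcdA q (orderOf w) + (orderOf w : ℤ) * Nat.gcdB q (orderOf w) = 1 := by
      rw [← Nat.gcd_eq_gcd_ab, hc.gcd_eq_one, Nat.cast_one]
    refine ⟨(m - 1) * Nat.gcdA q (orderOf w), ?_⟩
    rw [zpow_eq_zpow_iff_modEq, Int.modEq_iff_dvd]
    exact ⟨-(m - 1) * Nat.gcdB q (orderOf w), by linear_combination (m - 1) * hb⟩

/-- A prime-order element of a normal cyclic subgroup of a nilpotent group is central. -/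
theorem fix_of_prime {F : Type*} [Group F] [Finite F] [Group.IsNilpotent F] (Z : Subgroup F)
    [Z.Normal] [IsCyclic Z] {q : ℕ} (hq : q.Prime) (z : Z) (hz : z ^ q = 1) :
    (z : F) ∈ Subgroup.center F := by
  rcases eq_or_ne z 1 with rfl | hz1
  · exact one_mem _
  haveI := Fact.mk hq
  have hzo : orderOf z = q := orderOf_eq_prime hz hz1
  set P := Subgroup.zpowers (z : F) with hP
  have hPc : Nat.card P = q := by
    rw [hP, Nat.card_zpowers, Subgroup.orderOf_coe, hzo]
  haveI hPn : P.Normal := by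
    refine ⟨fun x hx g => ?_⟩
    obtain ⟨m, hm⟩ := MonoidHom.map_cyclic ((MulAut.conjNormal g : MulAut Z).toMonoidHom)
    obtain ⟨i, rfl⟩ := Subgroup.mem_zpowers_iff.mp hx
    refine Subgroup.mem_zpowers_iff.mpr ⟨m * i, ?_⟩
    have h := congrArg (fun a : Z => (a : F)) (hm (z ^ i))
    simp only [MulEquiv.coe_toMonoidHom, MulAut.conjNormal_apply, SubgroupClass.coe_zpow] at h
    rw [h, ← zpow_mul, mul_comm]
  by_contra hzc
  -- otherwise the intersection with the centre is trivial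
  have hne : Nontrivial P := Finite.one_lt_card_iff_nontrivial.mp (hPc ▸ hq.one_lt)
  have hbot : P ⊓ Subgroup.center F = ⊥ := by
    haveI : Fact (Nat.card P).Prime := ⟨hPc ▸ hq⟩
    rcases Subgroup.eq_bot_or_eq_top_of_prime_card ((Subgroup.center F).subgroupOf P) with h | h
    · rw [Subgroup.subgroupOf_eq_bot, disjoint_iff, inf_comm] at h
      exact h
    · exact absurd (Subgroup.subgroupOf_eq_top.mp h (Subgroup.mem_zpowers _)) hzc
  have h := Fitting.inf_center_ne_bot (N := P) ((Subgroup.nontrivial_iff_ne_bot _).mp hne)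
  exact h hbot

/-- In a nilpotent group, if the centre of the derived subgroup is cyclic then the derived subgroup
is abelian. -/
theorem commutator_comm {F : Type*} [Group F] [Finite F] [Group.IsNilpotent F]
    (hZ : IsCyclic ↥(commutator F ⊓ Subgroup.centralizer (commutator F : Set F))) :
    ∀ a ∈ commutator F, ∀ b ∈ commutator F, a * b = b * a := by
  set N := commutator F with hN
  set Z := N ⊓ Subgroup.centralizer (N : Set F) with hZdef
  haveI : Z.Normal := inferInstance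
  haveI := hZ
  by_contra hcon
  push Not at hcon
  obtain ⟨a, ha, b, hb, hab⟩ := hcon
  let π := QuotientGroup.mk' Z
  have hNb : N.map π ≠ ⊥ := fun h => hab (by
    have h1 : π a = 1 := (Subgroup.eq_bot_iff_forall _).mp h _ (Subgroup.mem_map_of_mem π ha)
    exact (Subgroup.mem_centralizer_iff.mp ((QuotientGroup.eq_one_iff a).mp h1).2 b hb).symm)
  haveI : (N.map π).Normal := Subgroup.Normal.map inferInstance π (QuotientGroup.mk'_surjective Z)
  have hne := Fitting.inf_center_ne_bot (N := N.map π) hNb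
  obtain ⟨⟨y, hy⟩, hy1⟩ := (Subgroup.ne_bot_iff_exists_ne_one).mp hne
  have hy1' : y ≠ 1 := fun h => hy1 (Subtype.ext h)
  obtain ⟨q, hq, hdvd⟩ := Nat.exists_prime_and_dvd
    (show orderOf y ≠ 1 from fun h => hy1' (orderOf_eq_one_iff.mp h))
  have hqy : orderOf (y ^ (orderOf y / q)) = q := orderOf_pow_orderOf_div (orderOf_pos y).ne' hdvd
  obtain ⟨x, hx, hxy⟩ := Subgroup.mem_map.mp (pow_mem hy.1 (orderOf y / q))
  have hxc : π x ∈ Subgroup.center _ := hxy.symm ▸ pow_mem hy.2 _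
  have hxZ : x ∉ Z := fun h => by
    have h1 : π x = 1 := (QuotientGroup.eq_one_iff x).mpr h
    rw [hxy] at h1
    rw [h1, orderOf_one] at hqy
    exact hq.one_lt.ne hqy
  have hxq : x ^ q ∈ Z := by
    refine (QuotientGroup.eq_one_iff _).mp ?_
    show π (x ^ q) = 1
    rw [map_pow, hxy]
    conv_lhs => rw [← hqy]
    rw [← pow_mul, hqy, Nat.div_mul_cancel hdvd, pow_orderOf_eq_one]
  -- the cocycle
  have hc : ∀ f : F, ∃ c : Z, f * x * f⁻¹ = x * c := by
    intro f
    refine ⟨⟨x⁻¹ * (f * x * f⁻¹), (QuotientGroup.eq_one_iff _).mp ?_⟩, by simp⟩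
    show π (x⁻¹ * (f * x * f⁻¹)) = 1
    rw [map_mul, map_mul, map_mul, map_inv, map_inv,
      Subgroup.mem_center_iff.mp hxc (π f), mul_inv_cancel_right, inv_mul_cancel]
  choose c hc using hc
  choose m hm using fun f : F => MonoidHom.map_cyclic ((MulAut.conjNormal f : MulAut Z).toMonoidHom)
  let w : Z := ⟨x ^ q, hxq⟩
  have hfix : ∀ f, ∀ z : Z, z ^ q = 1 → z ^ m f = z := fun f z hz => by
    rw [← hm f z]
    apply Subtype.ext
    show f * (z : F) * f⁻¹ = z
    rw [Subgroup.mem_center_iff.mp (fix_of_prime Z hq z hz) f, mul_inv_cancel_right]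
  obtain ⟨r, hr⟩ := IsCyclic.exists_generator (α := Z)
  choose t htr using fun f => exists_exp hq r (m f) (hfix f)
  have ht : ∀ f (u : Z), u ^ m f = u * u ^ ((q : ℤ) * t f) := fun f u => by
    obtain ⟨i, rfl⟩ := Subgroup.mem_zpowers_iff.mp (hr u)
    rw [← zpow_mul, mul_comm i, zpow_mul, htr f, ← zpow_mul, ← zpow_mul, ← zpow_add]
    congr 1
    ring
  have hxcom : ∀ f, Commute x (c f : F) := fun f => Subgroup.mem_centralizer_iff.mp (c f).2.2 x hx
  have hcq : ∀ f, c f ^ q = w ^ ((q : ℤ) * t f) := fun f => by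
    have h1 : w ^ m f = w * c f ^ q := by
      rw [← hm f w]
      apply Subtype.ext
      show f * x ^ q * f⁻¹ = x ^ q * ((c f : Z) : F) ^ q
      rw [← (hxcom f).mul_pow, ← hc f, conj_pow]
    rw [ht f w] at h1
    exact (mul_left_cancel h1).symm
  have hcomm : ∀ f g, c f * c g ^ m f = c g * c f ^ m g := by
    intro f g
    have key : ∀ f g, c g ^ m f = c g * w ^ ((q : ℤ) * t g * t f) := fun f g => by
      rw [ht f (c g), zpow_mul (c g), zpow_natCast, hcq g, ← zpow_mul]
    rw [key, key, ← mul_assoc, ← mul_assoc, show c g * c f = c f * c g from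
      Subtype.ext (Subgroup.mem_centralizer_iff.mp (c f).2.2 _ (c g).2.1), mul_right_comm (q : ℤ)]
  have hcen : ∀ f g : F, ⁅f, g⁆ * x = x * ⁅f, g⁆ := by
    intro f g
    have e : ∀ f g, (f * g) * x * (f * g)⁻¹ = x * ((c f * c g ^ m f : Z) : F) := fun f g => by
      rw [Subgroup.coe_mul, ← hm f (c g), ← mul_assoc, ← hc f]
      show _ = f * x * f⁻¹ * (f * (c g : F) * f⁻¹)
      rw [show f * g * x * (f * g)⁻¹ = f * (g * x * g⁻¹) * f⁻¹ by group, hc g]
      group
    have h1 : (f⁻¹ * g⁻¹) * x * (f⁻¹ * g⁻¹)⁻¹ = (g⁻¹ * f⁻¹) * x * (g⁻¹ * f⁻¹)⁻¹ := by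
      rw [e, e, hcomm]
    calc ⁅f, g⁆ * x = (g⁻¹ * f⁻¹)⁻¹ * ((f⁻¹ * g⁻¹) * x * (f⁻¹ * g⁻¹)⁻¹) * (f⁻¹ * g⁻¹) := by
          rw [commutatorElement_def]; group
      _ = x * ⁅f, g⁆ := by rw [h1, commutatorElement_def]; group
  refine hxZ ⟨hx, Subgroup.mem_centralizer_iff.mpr fun n hn => ?_⟩
  have hle : N ≤ Subgroup.centralizer ({x} : Set F) := by
    rw [hN, commutator_def, Subgroup.commutator_le]
    exact fun f _ g _ => Subgroup.mem_centralizer_singleton_iff.mpr (hcen f g)
  exact Subgroup.mem_centralizer_singleton_iff.mp (hle hn)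

end Cfsg.Agent.KB64
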