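import Cfsg.Agent.KB64.Gl
import Cfsg.Agent.KB64.Tools
import Cfsg.Agent.CG26.Symp.Linear
import Cfsg.Agent.SU3Geo98.Lift
import Cfsg.Agent.S4958
import Cfsg.Agent.S4197
import Cfsg.Agent.S4201
import Cfsg.Agent.Lib.Zassenhaus.Cyclic
import Cfsg.Agent.OddLocal43.Coprime
import Cfsg.Agent.Lib.Thompson.PSolvable
import Mathlib.GroupTheory.SchurZassenhaus

/-!
# Classes of a coprime solvable affine group

If `V` is a self-centralising elementary abelian normal Hall subgroup of a solvable group `X`,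
`|V| = p ^ n`, then `3 * k(X) ≤ |V| * 3 ^ n`.
-/

set_option autoImplicit false
set_option linter.style.haveILetI false

open scoped Classical commutatorElement

namespace Cfsg.Agent.KB64

open Cfsg.Agent.CG26.Symp (kk)

/-- The setting: an elementary abelian normal `p`-subgroup of `p'`-index, its own centralizer. -/
structure Hyp (p : ℕ) {X : Type} [Group X] (V : Subgroup X) : Prop where
  sol : Group.IsSolvable X
  nor : V.Normal
  exp : ∀ v ∈ V, v ^ p = 1
  idx : ¬ p ∣ V.index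
  self : Subgroup.centralizer (V : Set X) = V

variable {p : ℕ} [hp : Fact p.Prime] {X : Type} [Group X] [Finite X] {V : Subgroup X}

theorem Hyp.comm (h : Hyp p V) : ∀ a ∈ V, ∀ b ∈ V, a * b = b * a := fun a ha b hb =>
  (Subgroup.mem_centralizer_iff.mp (h.self.ge ha) b hb).symm

theorem Hyp.card_pow (h : Hyp p V) : ∃ n, Nat.card V = p ^ n :=
  IsPGroup.iff_card.mp fun v => ⟨1, Subtype.ext (by
    rw [pow_one, Subgroup.coe_pow]
    exact h.exp v v.2)⟩

theorem Hyp.coprime (h : Hyp p V) {k : ℕ} (hk : k ∣ V.index) : (Nat.card V).Coprime k := by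
  obtain ⟨n, hn⟩ := h.card_pow
  rw [hn]
  exact ((hp.out.coprime_iff_not_dvd.mpr fun hd => h.idx (hd.trans hk))).pow_left n

theorem Hyp.exists_compl (h : Hyp p V) : ∃ K : Subgroup X, Subgroup.IsComplement' V K := by
  haveI := h.nor
  exact Subgroup.exists_right_complement'_of_coprime (h.coprime dvd_rfl)

theorem exists_mul_of_compl {K : Subgroup X} (hK : Subgroup.IsComplement' V K) (x : X) :
    ∃ v ∈ V, ∃ k ∈ K, v * k = x := by
  obtain ⟨⟨v, k⟩, hvk, -⟩ := hK.existsUnique x
  exact ⟨v, v.2, k, k.2, hvk⟩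

/-- Cutting along a normal subgroup inside `V`. -/
theorem split (h : Hyp p V) (U : Subgroup X) [U.Normal] (hUV : U ≤ V) :
    ∃ L : Subgroup X, ∃ _ : L.Normal, U ≤ L ∧ V ⊓ L = U ∧ Hyp p (U.subgroupOf L) ∧
      Hyp p (V.map (QuotientGroup.mk' L)) ∧
      Nat.card (V.map (QuotientGroup.mk' L)) * Nat.card U = Nat.card V := by
  haveI := h.sol
  haveI := h.nor
  obtain ⟨K, hK⟩ := h.exists_compl
  let C : Subgroup X :=
    (Subgroup.centralizer ((V.map (QuotientGroup.mk' U) : Subgroup (X ⧸ U)) : Set (X ⧸ U))).comap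
      (QuotientGroup.mk' U)
  haveI : (V.map (QuotientGroup.mk' U)).Normal :=
    Subgroup.Normal.map inferInstance _ (QuotientGroup.mk'_surjective U)
  haveI : C.Normal := inferInstance
  have hC : ∀ x, x ∈ C ↔ ∀ v ∈ V, v⁻¹ * (x * v * x⁻¹) ∈ U := by
    intro x
    show QuotientGroup.mk' U x ∈ Subgroup.centralizer
      ((V.map (QuotientGroup.mk' U) : Subgroup (X ⧸ U)) : Set (X ⧸ U)) ↔ _
    rw [Subgroup.mem_centralizer_iff]
    constructor
    · intro hx v hv
      refine (QuotientGroup.eq_one_iff _).mp ?_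
      show QuotientGroup.mk' U _ = 1
      have := hx _ (Subgroup.mem_map_of_mem _ hv)
      simp only [map_mul, map_inv]
      rw [← this]
      group
    · rintro hx _ ⟨v, hv, rfl⟩
      have h1 : QuotientGroup.mk' U (v⁻¹ * (x * v * x⁻¹)) = 1 :=
        (QuotientGroup.eq_one_iff _).mpr (hx v hv)
      simp only [map_mul, map_inv, inv_mul_eq_one] at h1
      exact eq_mul_inv_iff_mul_eq.mp h1
  have hVC : V ≤ C := fun x hx => (hC x).mpr fun v hv => by
    rw [h.comm x hx v hv, mul_inv_cancel_right, inv_mul_cancel]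
    exact one_mem _
  set L : Subgroup X := U ⊔ (K ⊓ C) with hLdef
  have hUL : U ≤ L := le_sup_left
  have hKC : K ⊓ C ≤ L := le_sup_right
  have hLn : L.Normal := by
    refine ⟨fun l hl x => ?_⟩
    obtain ⟨u, hu, c, hc, rfl⟩ := Subgroup.mem_sup_of_normal_left.mp hl
    obtain ⟨v, hv, k, hk, rfl⟩ := exists_mul_of_compl hK x
    rw [show v * k * (u * c) * (v * k)⁻¹ =
      (v * k * u * (v * k)⁻¹) * ((v * k) * c * (v * k)⁻¹) by group]
    refine mul_mem (hUL (Subgroup.Normal.conj_mem inferInstance u hu _)) ?_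
    set c' := k * c * k⁻¹ with hc'
    have hc'1 : c' ∈ K ⊓ C :=
      ⟨K.mul_mem (K.mul_mem hk hc.1) (K.inv_mem hk), Subgroup.Normal.conj_mem inferInstance c hc.2 k⟩
    have h1 := (hC c').mp hc'1.2 (v⁻¹) (V.inv_mem hv)
    rw [show v * k * c * (v * k)⁻¹ = (v⁻¹⁻¹ * (c' * v⁻¹ * c'⁻¹)) * c' by rw [hc']; group]
    exact mul_mem (hUL h1) (hKC hc'1)
  have hinf : V ⊓ L = U := by
    refine le_antisymm ?_ (le_inf hUV hUL)
    rintro x ⟨hxV, hxL⟩
    obtain ⟨u, hu, c, hc, rfl⟩ := Subgroup.mem_sup_of_normal_left.mp hxL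
    have : c = 1 := Subgroup.disjoint_def.mp hK.disjoint
      (by simpa using V.mul_mem (V.inv_mem (hUV hu)) hxV) hc.1
    rw [this, mul_one]
    exact hu
  refine ⟨L, hLn, hUL, hinf, ?_, ?_, ?_⟩
  · refine ⟨inferInstance, inferInstance, fun v hv => Subtype.ext (h.exp _ (hUV hv)), ?_, ?_⟩
    · intro hd
      refine h.idx ?_
      have : U.relIndex L ∣ V.index := by
        rw [← hinf, Subgroup.inf_relIndex_right]
        exact Subgroup.relIndex_dvd_index_of_normal V L
      exact hd.trans this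
    · refine le_antisymm (fun l hl => ?_) (fun l hl => Subgroup.mem_centralizer_iff.mpr fun w hw =>
        Subtype.ext (h.comm _ (hUV hw) _ (hUV hl)))
      obtain ⟨u, hu, c, hc, hlc⟩ := Subgroup.mem_sup_of_normal_left.mp l.2
      have hcU : ∀ w ∈ U, c * w = w * c := by
        intro w hw
        have h1 : (w : X) * l = l * w :=
          congrArg Subtype.val (Subgroup.mem_centralizer_iff.mp hl ⟨w, hUL hw⟩ hw)
        rw [← hlc] at h1
        rw [← mul_right_inj u]
        calc u * (c * w) = u * c * w := by group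
          _ = w * (u * c) := h1.symm
          _ = u * (w * c) := by
            rw [← mul_assoc, h.comm w (hUV hw) u (hUV hu), mul_assoc]
      have hcV : c ∈ Subgroup.centralizer (V : Set X) := by
        refine Subgroup.mem_centralizer_iff.mpr fun v hv => ?_
        have hu1 := (hC c).mp hc.2 v hv
        refine (OddLocal43.commute_of_stab (a := c) (h := v) (c := c * v * c⁻¹ * v⁻¹) ?_ ?_ ?_).eq.symm
        · refine hcU _ ?_
          have h2 : c * v * c⁻¹ * v⁻¹ = v * (v⁻¹ * (c * v * c⁻¹)) * v⁻¹ := by group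
          rw [h2]
          exact Subgroup.Normal.conj_mem inferInstance _ hu1 v
        · group
        · have h2 : orderOf c ∣ V.index := by
            rw [hK.symm.index_eq_card]
            exact Subgroup.orderOf_dvd_natCard K hc.1
          have h3 : c * v * c⁻¹ * v⁻¹ ∈ V :=
            V.mul_mem (Subgroup.Normal.conj_mem inferInstance v hv c) (V.inv_mem hv)
          exact ((h.coprime h2).coprime_dvd_left (Subgroup.orderOf_dvd_natCard V h3)).symm
      rw [h.self] at hcV
      have hc1 : c = 1 := Subgroup.disjoint_def.mp hK.disjoint hcV hc.1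
      show (l : X) ∈ U
      rw [← hlc, hc1, mul_one]
      exact hu
  · refine ⟨inferInstance, Subgroup.Normal.map inferInstance _ (QuotientGroup.mk'_surjective L),
      ?_, ?_, ?_⟩
    · rintro _ ⟨v, hv, rfl⟩
      rw [← map_pow, h.exp v hv, map_one]
    · exact fun hd => h.idx (hd.trans (Subgroup.index_map_dvd V (QuotientGroup.mk'_surjective L)))
    · refine le_antisymm (fun y hy => ?_) ?_
      · obtain ⟨x, rfl⟩ := QuotientGroup.mk'_surjective L y
        have hxC : x ∈ C := (hC x).mpr fun v hv => by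
          rw [← hinf]
          refine ⟨V.mul_mem (V.inv_mem hv) (Subgroup.Normal.conj_mem inferInstance v hv x), ?_⟩
          refine (QuotientGroup.eq_one_iff _).mp ?_
          show QuotientGroup.mk' L _ = 1
          have h1 := Subgroup.mem_centralizer_iff.mp hy _ (Subgroup.mem_map_of_mem _ hv)
          simp only [map_mul, map_inv]
          rw [← h1]
          group
        obtain ⟨v, hv, k, hk, rfl⟩ := exists_mul_of_compl hK x
        have hkC : k ∈ C := by simpa using C.mul_mem (C.inv_mem (hVC hv)) hxC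
        refine ⟨v, hv, ?_⟩
        rw [map_mul, show QuotientGroup.mk' L k = 1 from
          (QuotientGroup.eq_one_iff k).mpr (hKC ⟨hk, hkC⟩), mul_one]
      · rintro _ ⟨v, hv, rfl⟩
        refine Subgroup.mem_centralizer_iff.mpr ?_
        rintro _ ⟨w, hw, rfl⟩
        rw [← map_mul, ← map_mul, h.comm v hv w hw]
  · have h1 := Thompson.relIndex_eq_card_map_mk' L V
    rw [← h1, ← Subgroup.inf_relIndex_right L V, inf_comm, hinf, mul_comm,
      ← Subgroup.relIndex_bot_left U, ← Subgroup.relIndex_bot_left V,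
      Subgroup.relIndex_mul_relIndex _ _ _ bot_le hUV]


/-- An independent family of normal subgroups inside `V`. -/
structure Fam (V : Subgroup X) {ι : Type} (s : Finset ι) (W : ι → Subgroup X) : Prop where
  nor : ∀ i ∈ s, (W i).Normal
  le : ∀ i ∈ s, W i ≤ V
  ne : ∀ i ∈ s, W i ≠ ⊥
  ind : ∀ i ∈ s, W i ⊓ (⨆ j ∈ s.erase i, W j) = ⊥

/-- The bound for groups of order at most `N`. -/
def Bound (p N : ℕ) : Prop :=
  ∀ (X : Type) [Group X] [Finite X] (V : Subgroup X), Nat.card X ≤ N → Hyp p V →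
    ∀ (ι : Type) (s : Finset ι) (W : ι → Subgroup X), s.Nonempty → Fam V s W →
      ∀ n, Nat.card V = p ^ n → 3 ^ s.card * kk X ≤ Nat.card V * 3 ^ n

theorem card_lt_of_ne_top {L : Subgroup X} (h : L ≠ ⊤) : Nat.card L < Nat.card X :=
  lt_of_le_of_ne (Subgroup.card_le_card_group L) fun he => h (L.eq_top_of_card_eq he)

theorem card_quotient_lt {L : Subgroup X} [L.Normal] (h : L ≠ ⊥) :
    Nat.card (X ⧸ L) < Nat.card X := by
  have h1 := L.card_eq_card_quotient_mul_card_subgroup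
  have h2 := Subgroup.one_lt_card_iff_ne_bot L |>.mpr h
  have h3 : 0 < Nat.card (X ⧸ L) := Nat.card_pos
  rw [h1]
  exact lt_mul_of_one_lt_right h3 h2

theorem singleton_fam (h : Hyp p V) (hV : V ≠ ⊥) :
    Fam V ({()} : Finset Unit) (fun _ => V) :=
  ⟨fun _ _ => h.nor, fun _ _ => le_rfl, fun _ _ => hV, fun i _ => by simp⟩

/-- Cutting in two. -/
theorem split_bound {N : ℕ} (IH : Bound p N) (hX : Nat.card X ≤ N + 1) (h : Hyp p V)
    (U : Subgroup X) [U.Normal] (hUV : U ≤ V) (hU : U ≠ ⊥) (hne : U ≠ V) {n : ℕ}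
    (hn : Nat.card V = p ^ n) {r : ℕ}
    (hrest : ∀ L : Subgroup X, ∀ _ : L.Normal, V ⊓ L = U → Hyp p (V.map (QuotientGroup.mk' L)) →
      ∀ m, Nat.card (V.map (QuotientGroup.mk' L)) = p ^ m → Nat.card (X ⧸ L) ≤ N →
        3 ^ r * kk (X ⧸ L) ≤ Nat.card (V.map (QuotientGroup.mk' L)) * 3 ^ m) :
    3 ^ (r + 1) * kk X ≤ Nat.card V * 3 ^ n := by
  obtain ⟨L, hLn, hUL, hinf, hL, hQ, hcard⟩ := split h U hUV
  have hLtop : L ≠ ⊤ := fun ht => hne (by rw [← hinf, ht, inf_top_eq])
  have hLbot : L ≠ ⊥ := fun hb => hU (le_bot_iff.mp (hb ▸ hUL))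
  have hLc : Nat.card L ≤ N := by
    have := card_lt_of_ne_top hLtop
    omega
  have hQc : Nat.card (X ⧸ L) ≤ N := by
    have := card_quotient_lt hLbot
    omega
  obtain ⟨a, ha⟩ := hL.card_pow
  obtain ⟨b, hb⟩ := hQ.card_pow
  have hUc : Nat.card (U.subgroupOf L) = Nat.card U :=
    Nat.card_congr (Subgroup.subgroupOfEquivOfLe hUL).toEquiv
  have hUne : U.subgroupOf L ≠ ⊥ := fun hb' => hU (by
    rw [← Subgroup.card_eq_one, ← hUc, hb', Subgroup.card_bot])
  have h1 := IH L (U.subgroupOf L) hLc hL Unit {()} _ ⟨(), Finset.mem_singleton_self _⟩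
    (singleton_fam hL hUne) a ha
  rw [Finset.card_singleton, pow_one, hUc] at h1
  have h2 := hrest L hLn hinf hQ b hb hQc
  have hnab : n = b + a := by
    refine Nat.pow_right_injective hp.out.two_le ?_
    show p ^ n = p ^ (b + a)
    rw [← hn, pow_add, ← hb, ← ha, hUc, hcard]
  calc 3 ^ (r + 1) * kk X ≤ 3 ^ (r + 1) * (kk L * kk (X ⧸ L)) :=
        Nat.mul_le_mul_left _ (Cfsg.Agent.S4201.result L)
    _ = (3 * kk L) * (3 ^ r * kk (X ⧸ L)) := by ring
    _ ≤ (Nat.card U * 3 ^ a) * (Nat.card (V.map (QuotientGroup.mk' L)) * 3 ^ b) :=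
        Nat.mul_le_mul h1 h2
    _ = Nat.card V * 3 ^ n := by rw [← hcard, hnab, pow_add]; ring

/-- At least two members. -/
theorem family_bound {N : ℕ} (IH : Bound p N) (hX : Nat.card X ≤ N + 1) (h : Hyp p V)
    {ι : Type} (s : Finset ι) (W : ι → Subgroup X) (hF : Fam V s W) (hs : 2 ≤ s.card) {n : ℕ}
    (hn : Nat.card V = p ^ n) : 3 ^ s.card * kk X ≤ Nat.card V * 3 ^ n := by
  obtain ⟨i, hi⟩ := Finset.card_pos.mp (by omega : 0 < s.card)
  obtain ⟨j, hj⟩ : (s.erase i).Nonempty := Finset.card_pos.mp (by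
    rw [Finset.card_erase_of_mem hi]; omega)
  haveI := hF.nor i hi
  have hne : W i ≠ V := fun he => by
    refine hF.ne j (Finset.mem_of_mem_erase hj) (le_bot_iff.mp ?_)
    rw [← hF.ind i hi]
    exact le_inf (he ▸ hF.le j (Finset.mem_of_mem_erase hj))
      (le_iSup₂ (f := fun k (_ : k ∈ s.erase i) => W k) j hj)
  have hc : s.card = (s.erase i).card + 1 := (Finset.card_erase_add_one hi).symm
  rw [hc]
  refine split_bound IH hX h (W i) (hF.le i hi) (hF.ne i hi) hne hn ?_
  intro L hLn hinf hQ m hm hQc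
  refine IH (X ⧸ L) (V.map (QuotientGroup.mk' L)) hQc hQ ι (s.erase i)
    (fun k => (W k).map (QuotientGroup.mk' L)) ⟨j, hj⟩ ⟨fun k hk => ?_, fun k hk => ?_, fun k hk => ?_,
      fun k hk => ?_⟩ m hm
  · exact Subgroup.Normal.map (hF.nor k (Finset.mem_of_mem_erase hk)) _
      (QuotientGroup.mk'_surjective L)
  · exact Subgroup.map_mono (hF.le k (Finset.mem_of_mem_erase hk))
  · intro hb
    have hks := Finset.mem_of_mem_erase hk
    have h1 : W k ≤ L := by
      simpa [Subgroup.map_eq_bot_iff] using hb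
    refine hF.ne k hks (le_bot_iff.mp ?_)
    rw [← hF.ind i hi]
    exact le_inf (hinf ▸ le_inf (hF.le k hks) h1)
      (le_iSup₂ (f := fun k (_ : k ∈ s.erase i) => W k) k hk)
  · rw [eq_bot_iff]
    rintro y ⟨⟨w, hw, rfl⟩, hy⟩
    simp only [← Subgroup.map_iSup] at hy
    obtain ⟨z, hz, hzw⟩ := hy
    have hzl : z⁻¹ * w ∈ L := by
      refine (QuotientGroup.eq_one_iff _).mp ?_
      show QuotientGroup.mk' L (z⁻¹ * w) = 1
      rw [map_mul, map_inv, hzw, inv_mul_cancel]
    have hsup : (⨆ l ∈ (s.erase i).erase k, W l) ≤ ⨆ l ∈ s.erase k, W l :=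
      iSup₂_le fun l hl => le_iSup₂ (f := fun l (_ : l ∈ s.erase k) => W l) l
        (Finset.mem_erase.mpr ⟨(Finset.mem_erase.mp hl).1,
          Finset.mem_of_mem_erase (Finset.mem_of_mem_erase hl)⟩)
    have hzV : z ∈ V := (iSup₂_le fun l hl => hF.le l
      (Finset.mem_of_mem_erase (Finset.mem_of_mem_erase hl)) :
        (⨆ l ∈ (s.erase i).erase k, W l) ≤ V) hz
    have hzwi : z⁻¹ * w ∈ W i := hinf ▸ ⟨V.mul_mem (V.inv_mem hzV)
      (hF.le k (Finset.mem_of_mem_erase hk) hw), hzl⟩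
    have hik : i ∈ s.erase k := Finset.mem_erase.mpr ⟨fun he => (Finset.mem_erase.mp hk).1 he.symm, hi⟩
    have hwsup : w ∈ ⨆ l ∈ s.erase k, W l := by
      rw [show w = z * (z⁻¹ * w) by group]
      exact mul_mem (hsup hz) ((le_iSup₂ (f := fun l (_ : l ∈ s.erase k) => W l) i hik) hzwi)
    have hw1 : w = 1 := by
      rw [← Subgroup.mem_bot, ← hF.ind k (Finset.mem_of_mem_erase hk)]
      exact ⟨hw, hwsup⟩
    rw [hw1, map_one]
    exact one_mem _

/-- Permuted members. -/
theorem permuted_bound {N : ℕ} (IH : Bound p N) (hX : Nat.card X ≤ N + 1) (h : Hyp p V)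
    {ι : Type} [Fintype ι] (σ : X →* Equiv.Perm ι) (W : ι → Subgroup X) (hW : ∀ i, W i ≤ V)
    (hne : ∀ i, W i ≠ ⊥) (hVσ : V ≤ σ.ker)
    (hnor : ∀ x ∈ σ.ker, ∀ i, ∀ w ∈ W i, x * w * x⁻¹ ∈ W i)
    (hind : ∀ i (s : Finset ι), i ∉ s → W i ⊓ (⨆ j ∈ s, W j) = ⊥)
    (h2 : 2 ≤ Fintype.card ι) {n : ℕ} (hn : Nat.card V = p ^ n) :
    3 * kk X ≤ Nat.card V * 3 ^ n := by
  haveI := h.sol
  haveI := h.nor
  set M := σ.ker with hM
  have hVc : Nat.card (V.subgroupOf M) = Nat.card V :=
    Nat.card_congr (Subgroup.subgroupOfEquivOfLe hVσ).toEquiv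
  have hMhyp : Hyp p (V.subgroupOf M) := by
    refine ⟨inferInstance, inferInstance, fun v hv => Subtype.ext (h.exp _ hv),
      fun hd => h.idx (hd.trans (Subgroup.relIndex_dvd_index_of_normal V M)), ?_⟩
    refine le_antisymm (fun l hl => ?_) (fun l hl => Subgroup.mem_centralizer_iff.mpr fun w hw =>
      Subtype.ext (h.comm _ hw _ hl))
    show (l : X) ∈ V
    refine h.self.le (Subgroup.mem_centralizer_iff.mpr fun v hv => ?_)
    exact congrArg Subtype.val (Subgroup.mem_centralizer_iff.mp hl ⟨v, hVσ hv⟩ hv)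
  have hsupeq : ∀ i, (⨆ j ∈ (Finset.univ : Finset ι).erase i, (W j).subgroupOf M).map M.subtype ≤
      ⨆ j ∈ (Finset.univ : Finset ι).erase i, W j := fun i => by
    simp only [Subgroup.map_iSup]
    exact iSup₂_mono fun j _ => Subgroup.map_comap_le _ _
  have hfam := family_bound IH ((Subgroup.card_le_card_group M).trans hX) hMhyp
    (Finset.univ : Finset ι) (fun i => (W i).subgroupOf M)
    ⟨fun i _ => ⟨fun w hw x => hnor x x.2 i w hw⟩, fun i _ w hw => hW i hw,
      fun i _ hb => hne i (by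
        rw [Subgroup.subgroupOf_eq_bot, disjoint_iff, inf_eq_left.mpr ((hW i).trans hVσ)] at hb
        exact hb),
      fun i _ => by
        rw [eq_bot_iff]
        rintro w ⟨hw1, hw2⟩
        have h1 : (w : X) ∈ W i ⊓ ⨆ j ∈ (Finset.univ : Finset ι).erase i, W j :=
          ⟨hw1, hsupeq i (Subgroup.mem_map_of_mem M.subtype hw2)⟩
        rw [hind i _ (Finset.notMem_erase i _), Subgroup.mem_bot] at h1
        exact Subtype.ext h1⟩
    h2 (hVc.trans hn)
  rw [hVc, Finset.card_univ] at hfam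
  set r := Fintype.card ι
  have hq : kk (X ⧸ M) ≤ 2 ^ (r - 1) := by
    rw [Cfsg.Agent.CG26.Symp.kk_congr (QuotientGroup.quotientKerEquivRange σ)]
    exact Cfsg.Agent.S4197.result σ.range
  calc 3 * kk X ≤ 3 * (kk M * kk (X ⧸ M)) := Nat.mul_le_mul_left _ (Cfsg.Agent.S4201.result M)
    _ ≤ 3 * (kk M * 3 ^ (r - 1)) := by
        gcongr
        exact hq.trans (Nat.pow_le_pow_left (by norm_num) _)
    _ = 3 ^ (r - 1 + 1) * kk M := by ring
    _ = 3 ^ r * kk M := by rw [Nat.sub_add_cancel (by omega)]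
    _ ≤ Nat.card V * 3 ^ n := hfam

/-- Fixed spaces of distinct maximal subgroups with fixed points are independent. -/
theorem fixed_indep (h : Hyp p V) (K : Subgroup X) (hK : Subgroup.IsComplement' V K) (A : Subgroup X)
    (hAK : A ≤ K) (hA : ∀ a ∈ A, ∀ b ∈ A, a * b = b * a) (B : Subgroup X)
    (hB : Maximal (fun B => B ≤ A ∧ V ⊓ Subgroup.centralizer (B : Set X) ≠ ⊥) B)
    {ι : Type} (s : Finset ι) (W : ι → Subgroup X)
    (hs : ∀ j ∈ s, ∃ C, Maximal (fun B => B ≤ A ∧ V ⊓ Subgroup.centralizer (B : Set X) ≠ ⊥) C ∧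
      B ≠ C ∧ W j = V ⊓ Subgroup.centralizer (C : Set X)) :
    (V ⊓ Subgroup.centralizer (B : Set X)) ⊓ (⨆ j ∈ s, W j) = ⊥ := by
  haveI := h.nor
  let fx : Subgroup X → Subgroup X := fun B => V ⊓ Subgroup.centralizer (B : Set X)
  let S : Set (Subgroup X) := {B | B ≤ A ∧ fx B ≠ ⊥}
  let _ : CommGroup V :=
    { (inferInstance : Group V) with mul_comm := fun a b => Subtype.ext (h.comm a a.2 b b.2) }
  haveI : Fintype B := Fintype.ofFinite _
  let t : V →* V := ∏ b : B, (MulAut.conjNormal (b : X) : MulAut V).toMonoidHom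
  have ht : ∀ w : V, t w = ∏ b : B, (MulAut.conjNormal (b : X) : MulAut V) w := fun w => by
    simp [t, MonoidHom.finsetProd_apply]
  have hle : (⨆ j ∈ s, W j) ≤ t.ker.map V.subtype := by
    refine iSup₂_le ?_
    intro j hj w hw'
    obtain ⟨C, hC, hBC, hWC⟩ := hs j hj
    have hw : w ∈ V ⊓ Subgroup.centralizer (C : Set X) := hWC ▸ hw'
    refine ⟨⟨w, hw.1⟩, ?_, rfl⟩
    show t _ = 1
    set z := t ⟨w, hw.1⟩ with hz
    have hzB : ∀ b : B, (MulAut.conjNormal (b : X) : MulAut V) z = z := fun b => by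
      rw [hz, ht, map_prod]
      exact Fintype.prod_equiv (Equiv.mulLeft b) _ _ fun c => by
        rw [← MulAut.mul_apply, ← map_mul]
        rfl
    have hzC : ∀ c ∈ C, (MulAut.conjNormal c : MulAut V) z = z := fun c hc => by
      rw [hz, ht, map_prod]
      refine Finset.prod_congr rfl fun b _ => ?_
      rw [← MulAut.mul_apply, ← map_mul, hA c (hC.1.1 hc) b (hB.1.1 b.2), map_mul,
        MulAut.mul_apply]
      congr 1
      apply Subtype.ext
      show c * w * c⁻¹ = w
      rw [Subgroup.mem_centralizer_iff.mp hw.2 c hc, mul_inv_cancel_right]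
    have hzfx : (z : X) ∈ fx (B ⊔ C) := by
      refine ⟨z.2, ?_⟩
      show (z : X) ∈ Subgroup.centralizer (((B ⊔ C : Subgroup X)) : Set X)
      have hle : B ⊔ C ≤ Subgroup.centralizer ({(z : X)} : Set X) := by
        refine sup_le (fun b hb => ?_) (fun c hc => ?_)
        · refine Subgroup.mem_centralizer_singleton_iff.mpr ?_
          exact mul_inv_eq_iff_eq_mul.mp (congrArg Subtype.val (hzB ⟨b, hb⟩))
        · refine Subgroup.mem_centralizer_singleton_iff.mpr ?_
          exact mul_inv_eq_iff_eq_mul.mp (congrArg Subtype.val (hzC c hc))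
      exact Subgroup.mem_centralizer_iff.mpr fun y hy =>
        Subgroup.mem_centralizer_singleton_iff.mp (hle hy)
    by_contra hz1
    have hS : B ⊔ C ∈ S := ⟨sup_le hB.1.1 hC.1.1, fun hb => hz1 (Subtype.ext (by
      rw [hb, Subgroup.mem_bot] at hzfx
      exact hzfx))⟩
    exact hBC (le_antisymm (le_trans le_sup_left (hC.2 hS le_sup_right))
      (le_trans le_sup_right (hB.2 hS le_sup_left)))
  rw [eq_bot_iff]
  rintro w ⟨hw1, hw2⟩
  obtain ⟨u, hu, rfl⟩ := hle hw2
  have h1 : ∀ b : B, (MulAut.conjNormal (b : X) : MulAut V) u = u := fun b => by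
    apply Subtype.ext
    show (b : X) * u * (b : X)⁻¹ = u
    exact mul_inv_eq_iff_eq_mul.mpr (Subgroup.mem_centralizer_iff.mp hw1.2 b b.2)
  have h2 : u ^ Fintype.card B = 1 := by
    rw [← Finset.card_univ, ← Finset.prod_const, ← Finset.prod_congr rfl fun b _ => h1 b, ← ht]
    exact hu
  have h3 : (Nat.card V).Coprime (Nat.card B) := h.coprime (by
    rw [hK.symm.index_eq_card]
    exact Subgroup.card_dvd_of_le (hB.1.1.trans hAK))
  have h4 : orderOf u ∣ Nat.gcd (Nat.card V) (Nat.card B) :=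
    Nat.dvd_gcd (orderOf_dvd_natCard u) (by
      rw [Nat.card_eq_fintype_card]; exact orderOf_dvd_of_pow_eq_one h2)
  rw [h3.gcd_eq_one, Nat.dvd_one, orderOf_eq_one_iff] at h4
  rw [h4]
  exact one_mem _

set_option maxHeartbeats 1000000 in
/-- An irreducible module with an abelian normal subgroup having fixed points. -/
theorem fixed_bound {N : ℕ} (IH : Bound p N) (hX : Nat.card X ≤ N + 1) (h : Hyp p V)
    (hirr : ∀ U : Subgroup X, U.Normal → U ≤ V → U = ⊥ ∨ U = V)
    (K : Subgroup X) (hK : Subgroup.IsComplement' V K) (A : Subgroup X) (hAK : A ≤ K)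
    (hA : ∀ a ∈ A, ∀ b ∈ A, a * b = b * a) (hAn : ∀ k ∈ K, ∀ a ∈ A, k * a * k⁻¹ ∈ A)
    {a : X} (ha : a ∈ A) (ha1 : a ≠ 1) {v : X} (hv : v ∈ V) (hv1 : v ≠ 1) (hav : a * v = v * a)
    {n : ℕ} (hn : Nat.card V = p ^ n) : 3 * kk X ≤ Nat.card V * 3 ^ n := by
  haveI := h.nor
  let fx : Subgroup X → Subgroup X := fun B => V ⊓ Subgroup.centralizer (B : Set X)
  let S : Set (Subgroup X) := {B | B ≤ A ∧ fx B ≠ ⊥}
  let cj : X → Subgroup X → Subgroup X := fun x B => B.map (MulAut.conj x).toMonoidHom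
  have hmemcj : ∀ x B y, y ∈ cj x B ↔ x⁻¹ * y * x ∈ B := fun x B y => by
    constructor
    · rintro ⟨z, hz, rfl⟩
      simpa [mul_assoc] using hz
    · exact fun hy => ⟨_, hy, by simp [mul_assoc]⟩
  have hfxcj : ∀ x B, fx (cj x B) = cj x (fx B) := fun x B => by
    ext y
    rw [hmemcj]
    constructor
    · rintro ⟨hy, hc⟩
      refine ⟨by simpa using Subgroup.Normal.conj_mem inferInstance y hy x⁻¹,
        Subgroup.mem_centralizer_iff.mpr fun b hb => ?_⟩
      have h1 := Subgroup.mem_centralizer_iff.mp hc _ ((hmemcj x B _).mpr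
        (show x⁻¹ * (x * b * x⁻¹) * x ∈ B by simpa [mul_assoc] using hb))
      calc b * (x⁻¹ * y * x) = x⁻¹ * ((x * b * x⁻¹) * y) * x := by group
        _ = x⁻¹ * (y * (x * b * x⁻¹)) * x := by rw [h1]
        _ = x⁻¹ * y * x * b := by group
    · rintro ⟨hy, hc⟩
      refine ⟨by simpa [mul_assoc] using Subgroup.Normal.conj_mem inferInstance _ hy x,
        Subgroup.mem_centralizer_iff.mpr fun b hb => ?_⟩
      have h1 := Subgroup.mem_centralizer_iff.mp hc _ ((hmemcj x B b).mp hb)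
      calc b * y = x * ((x⁻¹ * b * x) * (x⁻¹ * y * x)) * x⁻¹ := by group
        _ = x * ((x⁻¹ * y * x) * (x⁻¹ * b * x)) * x⁻¹ := by rw [h1]
        _ = y * b := by group
  -- maximal members
  let T : Set (Subgroup X) := {B | Maximal (fun B => B ∈ S) B}
  obtain ⟨B₀, haB₀, hB₀⟩ := Set.Finite.exists_le_maximal (Set.toFinite S)
    (show Subgroup.zpowers a ∈ S from ⟨Subgroup.zpowers_le.mpr ha, fun hb => hv1 (by
      rw [← Subgroup.mem_bot, ← hb]
      refine ⟨hv, ?_⟩
      show v ∈ Subgroup.centralizer ((Subgroup.zpowers a : Subgroup X) : Set X)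
      rw [Subgroup.mem_centralizer_iff]
      intro b hb'
      obtain ⟨i, rfl⟩ := Subgroup.mem_zpowers_iff.mp hb'
      exact ((show Commute a v from hav).zpow_left i).eq)⟩)
  have hcjS : ∀ k ∈ K, ∀ B, B ∈ S → cj k B ∈ S := fun k hk B hB => by
    refine ⟨fun y hy => ?_, fun hb => hB.2 ?_⟩
    · have := hAn k hk _ (hB.1 ((hmemcj k B y).mp hy))
      simpa [mul_assoc] using this
    · rw [hfxcj] at hb
      exact (Subgroup.map_eq_bot_iff_of_injective _ (MulAut.conj k).injective).mp hb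
  have hcjcj : ∀ x y B, cj x (cj y B) = cj (x * y) B := fun x y B => by
    ext z
    rw [hmemcj, hmemcj, hmemcj, mul_inv_rev]
    simp [mul_assoc]
  have hcjone : ∀ B, cj 1 B = B := fun B => by ext z; rw [hmemcj]; simp
  have hcjT : ∀ k ∈ K, ∀ B, B ∈ T → cj k B ∈ T := fun k hk B hB => by
    refine ⟨hcjS k hk B hB.1, fun C hC hle => ?_⟩
    have h1 : B ≤ cj k⁻¹ C := by
      calc B = cj k⁻¹ (cj k B) := by rw [hcjcj, inv_mul_cancel, hcjone]
        _ ≤ cj k⁻¹ C := Subgroup.map_mono hle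
    have h2 : cj k (cj k⁻¹ C) ≤ cj k B :=
      Subgroup.map_mono (hB.2 (hcjS _ (K.inv_mem hk) C hC) h1)
    rwa [hcjcj, mul_inv_cancel, hcjone] at h2
  -- the fixed spaces as blocks
  let 𝒲 : Set (Subgroup X) := fx '' T
  have hcj𝒲 : ∀ x W, W ∈ 𝒲 → cj x W ∈ 𝒲 := by
    rintro x _ ⟨B, hB, rfl⟩
    obtain ⟨u, hu, k, hk, rfl⟩ := exists_mul_of_compl hK x
    refine ⟨cj k B, hcjT k hk B hB, ?_⟩
    rw [hfxcj, ← hcjcj u k]
    ext y
    rw [hmemcj u]
    constructor
    · intro hy
      have hyV : y ∈ V := (hfxcj k B).symm.le hy |>.1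
      rwa [mul_assoc, h.comm y hyV u hu, inv_mul_cancel_left]
    · intro hy
      have hyV : u⁻¹ * y * u ∈ V := ((hfxcj k B).symm.le hy).1
      have hy' : y ∈ V := by simpa [mul_assoc] using V.mul_mem (V.mul_mem hu hyV) (V.inv_mem hu)
      rwa [mul_assoc, h.comm y hy' u hu, inv_mul_cancel_left] at hy
  letI : MulAction X ↥𝒲 :=
    { smul := fun x W => ⟨cj x W.1, hcj𝒲 x W.1 W.2⟩
      one_smul := fun W => Subtype.ext (hcjone W.1)
      mul_smul := fun x y W => Subtype.ext (hcjcj x y W.1).symm }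
  haveI : Fintype ↥𝒲 := Fintype.ofFinite _
  have hWle : ∀ W : ↥𝒲, W.1 ≤ V := by
    rintro ⟨_, B, hB, rfl⟩
    exact inf_le_left
  have hker : ∀ x, x ∈ (MulAction.toPermHom X ↥𝒲).ker ↔ ∀ W : ↥𝒲, cj x W.1 = W.1 := fun x => by
    rw [MonoidHom.mem_ker, Equiv.ext_iff]
    exact forall_congr' fun W => Subtype.ext_iff
  -- independence
  have hind : ∀ (W : ↥𝒲) (s : Finset ↥𝒲), W ∉ s → W.1 ⊓ (⨆ j ∈ s, j.1) = ⊥ := by
    rintro ⟨_, B, hB, rfl⟩ s hns
    refine fixed_indep h K hK A hAK hA B hB _ _ ?_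
    rintro ⟨_, C, hC, rfl⟩ hne
    exact ⟨C, hC, fun he => hns (by subst he; exact hne), rfl⟩
  -- two blocks
  have h2 : 2 ≤ Fintype.card ↥𝒲 := by
    by_contra hlt
    haveI : Subsingleton ↥𝒲 := Fintype.card_le_one_iff_subsingleton.mp (by omega)
    have hWnor : (fx B₀).Normal := by
      refine ⟨fun w hw x => ?_⟩
      have h1 : cj x (fx B₀) = fx B₀ := congrArg Subtype.val
        (Subsingleton.elim (⟨cj x (fx B₀), hcj𝒲 x _ ⟨B₀, hB₀, rfl⟩⟩ : ↥𝒲) ⟨fx B₀, B₀, hB₀, rfl⟩)
      exact h1.le <| (hmemcj x (fx B₀) _).mpr (by simpa [mul_assoc] using hw)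
    have hWV : fx B₀ = V := (hirr _ hWnor inf_le_left).resolve_left hB₀.1.2
    have haV : a ∈ V := h.self.le (Subgroup.mem_centralizer_iff.mpr fun w hw =>
      (Subgroup.mem_centralizer_iff.mp (hWV.symm.le hw).2 a
        (haB₀ (Subgroup.mem_zpowers a))).symm)
    exact ha1 (Subgroup.disjoint_def.mp hK.disjoint haV (hAK ha))
  refine permuted_bound IH hX h (MulAction.toPermHom X ↥𝒲) (fun W => W.1) hWle ?_ ?_ ?_ hind h2 hn
  · rintro ⟨_, B, hB, rfl⟩
    exact hB.1.2
  · intro x hx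
    rw [hker]
    intro W
    ext y
    rw [hmemcj]
    constructor
    · intro hy
      have hyV := hWle W hy
      have : y ∈ V := by simpa [mul_assoc] using V.mul_mem (V.mul_mem hx hyV) (V.inv_mem hx)
      rwa [mul_assoc, h.comm y this x hx, inv_mul_cancel_left] at hy
    · intro hy
      rwa [mul_assoc, h.comm y (hWle W hy) x hx, inv_mul_cancel_left]
  · intro x hx W w hw
    exact ((hker x).mp hx W).le (show x * w * x⁻¹ ∈ cj x W.1 from
      (hmemcj x W.1 _).mpr (by simpa [mul_assoc] using hw))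

set_option maxHeartbeats 1000000 in
/-- Abelian normal subgroups of a complement acting freely: the derived subgroup of the Fitting
subgroup is abelian and acts freely, so the stabilisers in it are abelian. -/
theorem prim_bound (h : Hyp p V) (hV : V ≠ ⊥) (K : Subgroup X) (hK : Subgroup.IsComplement' V K)
    (hfree : ∀ A : Subgroup X, A ≤ K → (∀ a ∈ A, ∀ b ∈ A, a * b = b * a) →
      (∀ k ∈ K, ∀ a ∈ A, k * a * k⁻¹ ∈ A) →
      ∀ a ∈ A, a ≠ 1 → ∀ v ∈ V, a * v = v * a → v = 1)
    {n : ℕ} (hn : Nat.card V = p ^ n) : 3 * kk X ≤ Nat.card V * 3 ^ n := by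
  haveI := h.sol
  haveI := h.nor
  set F := Cfsg.fittingSubgroup K with hF
  haveI : F.Normal := Cfsg.Agent.Fitting.fitting_normal
  haveI hFnil : Group.IsNilpotent F := Cfsg.Agent.Fitting.fitting_isNilpotent
  let j : F →* X := K.subtype.comp F.subtype
  have hj : Function.Injective j := K.subtype_injective.comp F.subtype_injective
  -- characteristic subgroups of `F`
  have hchar : ∀ D : Subgroup F, D.Characteristic →
      ∀ k ∈ K, ∀ a ∈ D.map j, k * a * k⁻¹ ∈ D.map j := by
    rintro D hD k hk _ ⟨d, hd, rfl⟩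
    have hd' : (MulAut.conjNormal (⟨k, hk⟩ : K) : MulAut F) d ∈ D := by
      have h1 := Subgroup.characteristic_iff_map_eq.mp hD (MulAut.conjNormal (⟨k, hk⟩ : K) : MulAut F)
      exact h1.le (Subgroup.mem_map_of_mem _ hd)
    exact ⟨_, hd', rfl⟩
  have hjK : ∀ D : Subgroup F, D.map j ≤ K := by
    rintro D _ ⟨d, -, rfl⟩
    exact (d : K).2
  have hVnt : Nontrivial V := (Subgroup.nontrivial_iff_ne_bot V).mpr hV
  let _ : CommGroup V :=
    { (inferInstance : Group V) with mul_comm := fun a b => Subtype.ext (h.comm a a.2 b b.2) }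
  have hcyc : ∀ D : Subgroup F, D.Characteristic → (∀ a ∈ D, ∀ b ∈ D, a * b = b * a) →
      IsCyclic D := by
    intro D hD hDc
    have hDab : ∀ a ∈ D.map j, ∀ b ∈ D.map j, a * b = b * a := by
      rintro _ ⟨a, ha, rfl⟩ _ ⟨b, hb, rfl⟩
      rw [← map_mul, ← map_mul, hDc a ha b hb]
    letI : MulDistribMulAction D V :=
      MulDistribMulAction.compHom V (((MulAut.conjNormal : X →* MulAut V).comp j).comp D.subtype)
    refine ZassNormal.isCyclic_of_fpf_comm (M := V)
      (fun a b => Subtype.ext (hDc a a.2 b b.2)) ?_ fun d hd v hdv => ?_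
    · refine (h.coprime ?_).symm
      rw [hK.symm.index_eq_card]
      exact (Subgroup.card_subgroup_dvd_card D).trans (Subgroup.card_subgroup_dvd_card F)
    · refine Subtype.ext (hfree _ (hjK D) hDab (hchar D hD) (j d) (Subgroup.mem_map_of_mem j d.2)
        (fun he => hd (Subtype.ext (hj (he.trans (map_one j).symm)))) v v.2 ?_)
      exact mul_inv_eq_iff_eq_mul.mp (congrArg Subtype.val hdv)
  have hZ : IsCyclic ↥(commutator F ⊓ Subgroup.centralizer (commutator F : Set F)) :=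
    hcyc _ inferInstance fun a ha b hb => Subgroup.mem_centralizer_iff.mp hb.2 a ha.1
  have hN := commutator_comm hZ
  have hNfree : ∀ a ∈ commutator F, a ≠ 1 → ∀ v ∈ V, j a * v = v * j a → v = 1 := by
    intro a ha ha1 v hv hav
    refine hfree _ (hjK (commutator F)) ?_ (hchar _ inferInstance) (j a)
      (Subgroup.mem_map_of_mem j ha) (fun he => ha1 (hj (he.trans (map_one j).symm))) v hv hav
    rintro _ ⟨a, ha, rfl⟩ _ ⟨b, hb, rfl⟩
    rw [← map_mul, ← map_mul, hN a ha b hb]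
  obtain ⟨v, hv1⟩ := exists_ne (1 : V)
  -- the extension by the Fitting subgroup
  set FX := F.map K.subtype with hFX
  set Y : Subgroup X := V ⊔ FX with hY
  have hFXK : FX ≤ K := Subgroup.map_subtype_le F
  have hYn : Y.Normal := by
    refine ⟨fun y hy x => ?_⟩
    obtain ⟨u, hu, f, hf, rfl⟩ := Subgroup.mem_sup_of_normal_left.mp hy
    obtain ⟨w, hw, k, hk, rfl⟩ := exists_mul_of_compl hK x
    have hkf : k * f * k⁻¹ ∈ Y := by
      obtain ⟨f', hf', rfl⟩ := hf
      exact Subgroup.mem_sup_right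
        ⟨⟨k, hk⟩ * f' * (⟨k, hk⟩ : K)⁻¹, Subgroup.Normal.conj_mem inferInstance f' hf' _, rfl⟩
    have hwY : w ∈ Y := Subgroup.mem_sup_left hw
    rw [show w * k * (u * f) * (w * k)⁻¹ = w * ((k * u * k⁻¹) * (k * f * k⁻¹)) * w⁻¹ by group]
    exact Y.mul_mem (Y.mul_mem hwY (Y.mul_mem
      (Subgroup.mem_sup_left (Subgroup.Normal.conj_mem inferInstance u hu k)) hkf)) (Y.inv_mem hwY)
  have hVY : V ≤ Y := le_sup_left
  have hVYc : Nat.card (V.subgroupOf Y) = Nat.card V :=
    Nat.card_congr (Subgroup.subgroupOfEquivOfLe hVY).toEquiv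
  have hcompl : Subgroup.IsComplement' (V.subgroupOf Y) (FX.subgroupOf Y) := by
    refine Subgroup.isComplement'_of_disjoint_and_mul_eq_univ ?_ ?_
    · rw [Subgroup.disjoint_def]
      exact fun {y} hy1 hy2 => Subtype.ext (Subgroup.disjoint_def.mp hK.disjoint hy1 (hFXK hy2))
    · refine Set.eq_univ_of_forall fun y => ?_
      obtain ⟨u, hu, f, hf, he⟩ := Subgroup.mem_sup_of_normal_left.mp y.2
      exact ⟨⟨u, hVY hu⟩, hu, ⟨f, Subgroup.mem_sup_right hf⟩, hf, Subtype.ext he⟩
  have hkY : kk Y ≤ Nat.card V := by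
    rw [← hVYc]
    refine Cfsg.Agent.S4958.result p (V.subgroupOf Y) (fun w hw => Subtype.ext (h.exp _ hw)) ?_ ?_
      (FX.subgroupOf Y) hcompl ⟨v, hVY v.2⟩ v.2 ?_
    · exact fun hd => h.idx (hd.trans (Subgroup.relIndex_dvd_index_of_normal V Y))
    · refine le_antisymm (fun l hl => ?_) (fun l hl => Subgroup.mem_centralizer_iff.mpr fun w hw =>
        Subtype.ext (h.comm _ hw _ hl))
      show (l : X) ∈ V
      refine h.self.le (Subgroup.mem_centralizer_iff.mpr fun w hw => ?_)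
      exact congrArg Subtype.val (Subgroup.mem_centralizer_iff.mp hl ⟨w, hVY hw⟩ hw)
    · rintro y ⟨⟨f, hf, hyf⟩, hy2⟩ z ⟨⟨g, hg, hzg⟩, hz2⟩
      apply Subtype.ext
      have hfv : j ⟨f, hf⟩ * v = v * j ⟨f, hf⟩ := by
        show (f : X) * v = v * f
        rw [show (f : X) = y from hyf]
        exact congrArg Subtype.val (Subgroup.mem_centralizer_singleton_iff.mp hy2)
      have hgv : j ⟨g, hg⟩ * v = v * j ⟨g, hg⟩ := by
        show (g : X) * v = v * g
        rw [show (g : X) = z from hzg]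
        exact congrArg Subtype.val (Subgroup.mem_centralizer_singleton_iff.mp hz2)
      have hc : ⁅(⟨f, hf⟩ : F), (⟨g, hg⟩ : F)⁆ = (1 : F) := by
        by_contra hne
        refine hv1 (Subtype.ext (hNfree _ (Subgroup.commutator_mem_commutator (Subgroup.mem_top _)
          (Subgroup.mem_top _)) hne v v.2 ?_))
        rw [commutatorElement_def, map_mul, map_mul, map_mul, map_inv, map_inv]
        have hf' : Commute (j ⟨f, hf⟩) (v : X) := hfv
        have hg' : Commute (j ⟨g, hg⟩) (v : X) := hgv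
        exact (((hf'.mul_left hg').mul_left hf'.inv_left).mul_left hg'.inv_left).eq
      show (y : X) * z = z * y
      rw [← show (f : X) = y from hyf, ← show (g : X) = z from hzg]
      exact congrArg j (commutatorElement_eq_one_iff_mul_comm.mp hc)
  -- the quotient by the extension
  haveI := hYn
  let η : K →* X ⧸ Y := (QuotientGroup.mk' Y).comp K.subtype
  have hη : Function.Surjective η := fun y => by
    obtain ⟨x, rfl⟩ := QuotientGroup.mk'_surjective Y y
    obtain ⟨w, hw, k, hk, rfl⟩ := exists_mul_of_compl hK x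
    refine ⟨⟨k, hk⟩, ?_⟩
    show QuotientGroup.mk' Y k = QuotientGroup.mk' Y (w * k)
    rw [map_mul, show QuotientGroup.mk' Y w = 1 from (QuotientGroup.eq_one_iff w).mpr (hVY hw),
      one_mul]
  have hηker : η.ker = F := by
    ext k
    have : k ∈ η.ker ↔ (k : X) ∈ Y := QuotientGroup.eq_one_iff (k : X)
    rw [this]
    constructor
    · intro hk
      obtain ⟨u, hu, f, ⟨f', hf', rfl⟩, he⟩ := Subgroup.mem_sup_of_normal_left.mp hk
      have hu1 : u = 1 := by
        refine Subgroup.disjoint_def.mp hK.disjoint hu ?_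
        rw [eq_mul_inv_of_mul_eq he]
        exact K.mul_mem k.2 (K.inv_mem f'.2)
      rw [hu1, one_mul] at he
      exact (Subtype.ext he : f' = k) ▸ hf'
    · exact fun hk => Subgroup.mem_sup_right (Subgroup.mem_map_of_mem K.subtype hk)
  have hkQ : kk (X ⧸ Y) ≤ 3 ^ (n - 1) := by
    have e := (QuotientGroup.quotientMulEquivOfEq hηker.symm).trans
      (QuotientGroup.quotientKerEquivOfSurjective η hη)
    rw [← Cfsg.Agent.CG26.Symp.kk_congr e, ← Cfsg.Agent.CG26.Symp.kk_congr Subgroup.topEquiv]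
    -- a complex representation
    have hn0 : 0 < n := by
      rw [Nat.pos_iff_ne_zero]
      rintro rfl
      exact hV (Subgroup.card_eq_one.mp (by rw [hn, pow_zero]))
    obtain ⟨φ, hφ⟩ := exists_gl (p := p) (fun x : V => Subtype.ext (by
        rw [Subgroup.coe_pow]; exact h.exp _ x.2)) hn
      ((MulAut.conjNormal : X →* MulAut V).comp K.subtype)
      ((injective_iff_map_eq_one _).mpr fun k hk => Subtype.ext (by
        refine Subgroup.disjoint_def.mp hK.disjoint ?_ k.2
        refine h.self.le (Subgroup.mem_centralizer_iff.mpr fun w hw => ?_)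
        have h1 := congrArg (fun f : MulAut V => ((f ⟨w, hw⟩ : V) : X)) hk
        change (k : X) * w * (k : X)⁻¹ = w at h1
        exact (mul_inv_eq_iff_eq_mul.mp h1).symm))
    obtain ⟨O, iO, π, ι, ψ, hι, -, hπψ, -⟩ := SU3Geo98.Lift.exists_lift_complex (p := p)
      (fun hd => h.idx (hK.symm.index_eq_card ▸ hd)) φ
    have hψ : Function.Injective ψ := by
      refine Function.Injective.of_comp (f := Matrix.GeneralLinearGroup.map π) ?_
      rw [← MonoidHom.coe_comp, hπψ]
      exact hφ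
    let ψc : K →* GL (Fin n) ℂ := (Matrix.GeneralLinearGroup.map ι).comp ψ
    have hψc : Function.Injective ψc := fun a b hab => hψ (Units.ext (Matrix.map_injective hι
      (congrArg Units.val hab)))
    haveI : Nonempty (Fin n) := ⟨⟨0, hn0⟩⟩
    let ρ : Representation ℂ K (Fin n → ℂ) :=
      ((Matrix.toLinAlgEquiv' : Matrix (Fin n) (Fin n) ℂ ≃ₐ[ℂ] Module.End ℂ (Fin n → ℂ)) :
        Matrix (Fin n) (Fin n) ℂ →* Module.End ℂ (Fin n → ℂ)).comp ((Units.coeHom _).comp ψc)
    have hρ : Function.Injective ρ := fun a b hab => hψc (Units.ext (AlgEquiv.injective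
      (Matrix.toLinAlgEquiv' : Matrix (Fin n) (Fin n) ℂ ≃ₐ[ℂ] Module.End ℂ (Fin n → ℂ)) hab))
    exact Cfsg.Agent.CG26.Symp.good_all n K (Fin n → ℂ) ρ hρ (Module.finrank_fin_fun ℂ) ⊤
  calc 3 * kk X ≤ 3 * (kk Y * kk (X ⧸ Y)) := Nat.mul_le_mul_left _ (Cfsg.Agent.S4201.result Y)
    _ ≤ 3 * (Nat.card V * 3 ^ (n - 1)) := by gcongr
    _ = Nat.card V * 3 ^ (n - 1 + 1) := by ring
    _ ≤ Nat.card V * 3 ^ n := by
        rcases n with _ | m
        · exact absurd (Subgroup.card_eq_one.mp (by rw [hn, pow_zero])) hV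
        · simp

theorem bound_all (p : ℕ) [Fact p.Prime] : ∀ N, Bound p N := by
  intro N
  induction N with
  | zero => exact fun X _ _ _ hX => absurd hX (Nat.not_le.mpr Nat.card_pos)
  | succ N IH =>
    intro X _ _ V hX h ι s W hs hF n hn
    haveI := h.nor
    rcases Nat.lt_or_ge s.card 2 with hlt | hge
    swap
    · exact family_bound IH hX h s W hF hge hn
    have hV : V ≠ ⊥ := by
      obtain ⟨i, hi⟩ := hs
      exact fun hb => hF.ne i hi (le_bot_iff.mp (hb ▸ hF.le i hi))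
    have hc : s.card = 1 := by
      have := hs.card_pos
      omega
    rw [hc, pow_one]
    by_cases hirr : ∀ U : Subgroup X, U.Normal → U ≤ V → U = ⊥ ∨ U = V
    · obtain ⟨K, hK⟩ := h.exists_compl
      by_cases hfree : ∀ A : Subgroup X, A ≤ K → (∀ a ∈ A, ∀ b ∈ A, a * b = b * a) →
          (∀ k ∈ K, ∀ a ∈ A, k * a * k⁻¹ ∈ A) →
          ∀ a ∈ A, a ≠ 1 → ∀ v ∈ V, a * v = v * a → v = 1
      · exact prim_bound h hV K hK hfree hn
      · push Not at hfree
        obtain ⟨A, hAK, hA, hAn, a, ha, ha1, v, hv, hav, hv1⟩ := hfree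
        exact fixed_bound IH hX h hirr K hK A hAK hA hAn ha ha1 hv hv1 hav hn
    · push Not at hirr
      obtain ⟨U, hU, hUV, hU1, hU2⟩ := hirr
      have h2 : 3 ^ (1 + 1) * kk X ≤ Nat.card V * 3 ^ n := by
        refine split_bound IH hX h U hUV hU1 hU2 hn fun L hLn hinf hQ m hm hQc => ?_
        have hne : V.map (QuotientGroup.mk' L) ≠ ⊥ := fun hb => hU2 (by
          have h1 : V ≤ L := by simpa [Subgroup.map_eq_bot_iff] using hb
          rw [← hinf, inf_eq_left.mpr h1])
        simpa using IH (X ⧸ L) _ hQc hQ Unit {()} _ ⟨(), Finset.mem_singleton_self _⟩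
          (singleton_fam hQ hne) m hm
      calc 3 * kk X ≤ 3 ^ (1 + 1) * kk X := by
            refine Nat.mul_le_mul_right _ ?_
            norm_num
        _ ≤ _ := h2

/-- The bound on the classes of a coprime solvable affine group. -/
theorem three_mul_kk_le (h : Hyp p V) (hV : V ≠ ⊥) {n : ℕ} (hn : Nat.card V = p ^ n) :
    3 * kk X ≤ Nat.card V * 3 ^ n := by
  simpa using bound_all p (Nat.card X) X V le_rfl h Unit {()} _
    ⟨(), Finset.mem_singleton_self _⟩ (singleton_fam h hV) n hn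

end Cfsg.Agent.KB64
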