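import Cfsg.Agent.CharB.CyclicExt
import Cfsg.Agent.CharDeep.Ext.Clifford
import Cfsg.Agent.Lib.BlocksDefect.Normal
import Cfsg.Agent.Lib.CharInd.Char
import Cfsg.Agent.Lib.CharCore.Complete
import Mathlib.GroupTheory.CommutingProbability

/-!
# Characters over an invariant character of a normal subgroup

At most as many irreducible characters lie over an invariant irreducible character of `N` as
`G/N` has classes. On each coset the characters over `θ` are multiples of one extension of `θ`
to the cyclic extension generated by the coset, and Bessel's inequality bounds the multipliers.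
-/

set_option autoImplicit false

open scoped ComplexConjugate
open Cfsg Cfsg.Agent.BlocksCore Cfsg.Agent.BlocksDefect

namespace Cfsg.Agent.KB64

universe u

variable {G : Type u} [Group G] [Fintype G] (N : Subgroup G) [N.Normal] [Fintype N]

/-- On a cyclic extension the characters over `θ` are multiples of an extension of `θ`. -/
theorem exists_factor (θ : IrrCharacter N) (hinv : CharDeep.Ext.Inv N (θ : N → ℂ)) (g : G) :
    ∃ ψ : G → ℂ, (∑ n : N, Complex.normSq (ψ ((n : G) * g)) = Nat.card N) ∧
      ∀ χ : IrrCharacter G, IsConstituent χ θ → ∃ a : ℂ, ∀ n : N,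
        (χ : G → ℂ) ((n : G) * g) = a * ψ ((n : G) * g) := by
  classical
  set π := QuotientGroup.mk' N with hπ
  let H : Subgroup G := (Subgroup.zpowers (π g)).comap π
  haveI : Fintype H := Fintype.ofFinite H
  have hNH : N ≤ H := fun n hn => by
    show π n ∈ Subgroup.zpowers (π g)
    rw [show π n = 1 from (QuotientGroup.eq_one_iff n).mpr hn]
    exact one_mem _
  have hgH : g ∈ H := Subgroup.mem_zpowers (π g)
  set N' := N.subgroupOf H with hN'
  haveI : Fintype N' := Fintype.ofFinite N'
  haveI : N'.Normal := inferInstance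
  let eN : N' ≃* N := Subgroup.subgroupOfEquivOfLe hNH
  haveI : IsCyclic (H ⧸ N') := by
    let f : H →* Subgroup.zpowers (π g) := π.subgroupComap _
    have hk : f.ker = N' := by
      ext x
      rw [MonoidHom.mem_ker, Subtype.ext_iff, hN', Subgroup.mem_subgroupOf]
      exact QuotientGroup.eq_one_iff _
    exact isCyclic_of_surjective _
      ((QuotientGroup.quotientKerEquivOfSurjective f
        (MonoidHom.subgroupComap_surjective_of_surjective π _ (QuotientGroup.mk'_surjective N))).symm.trans
        (QuotientGroup.quotientMulEquivOfEq hk)).surjective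
  let θ' : IrrCharacter N' := ⟨(θ : N → ℂ) ∘ eN,
    CharCore.isIrrCharacter_comp_surjective θ.2 eN.toMonoidHom eN.surjective⟩
  obtain ⟨ψ, hψ, hψN⟩ := CharB.exists_extension_of_cyclic N' inferInstance θ'.2
    (fun x n => (congrArg _ (Subtype.ext rfl)).trans (hinv (x : G) (eN n)))
  have hψN' : (fun n : N' => ψ n) = (θ' : N' → ℂ) := funext hψN
  have hψirr : IsIrrCharacter N' (fun n : N' => ψ n) := hψN' ▸ θ'.2
  let ψG : G → ℂ := fun x => if h : x ∈ H then ψ ⟨x, h⟩ else 0
  have hmemH : ∀ n : N, (n : G) * g ∈ H := fun n => H.mul_mem (hNH n.2) hgH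
  have hψG : ∀ n : N, ψG ((n : G) * g) = ψ ⟨(n : G) * g, hmemH n⟩ := fun n => dif_pos _
  refine ⟨ψG, ?_, fun χ hχ => ?_⟩
  · have h := congrFun (CharDeep.Ext.avg_mul_conj_self hψ hψirr) ⟨g, hgH⟩
    rw [CharDeep.Ext.avg_apply, Pi.one_apply, inv_mul_eq_one₀ (CharDeep.Ext.natCard_ne N'),
      Nat.card_congr eN.toEquiv] at h
    apply Complex.ofReal_injective
    push_cast
    rw [h]
    refine (Fintype.sum_equiv eN.toEquiv _ _ fun n => ?_).symm
    rw [← Complex.mul_conj, show ψG (((eN.toEquiv n : N) : G) * g) = _ from hψG _]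
    rfl
  · have hres := CharCore.isCharacter_restrict (CharCore.irr_isCharacter χ) H
    obtain ⟨m, hm⟩ := CharCore.IsCharacter.exists_sum hres
    have hβ : ∀ β : IrrCharacter H, ∃ γ : H → ℂ, (∀ (n : N') x, γ ((n : H) * x) = γ x) ∧
        (m β : ℂ) • (β : H → ℂ) = (m β : ℂ) • (γ * ψ) := by
      intro β
      rcases Nat.eq_zero_or_pos (m β) with h0 | h0
      · exact ⟨0, fun _ _ => rfl, by simp [h0]⟩
      have hne : classInner (fun n : N' => (β : H → ℂ) n) (fun n : N' => ψ n) ≠ 0 := by
        rw [hψN']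
        obtain ⟨φ, hφ⟩ := exists_constituent_irr (N := N') β
        suffices φ = θ' by rw [← this]; exact hφ
        by_contra hne
        have hinvθ : CharDeep.Ext.Inv N (θ : N → ℂ) := hinv
        have hχN := CharDeep.Ext.restrict_eq_smul N hinvθ θ.2 χ.2 hχ
        have hcz : classInner (fun n : N' => (χ : G → ℂ) ((n : H) : G)) (φ : N' → ℂ) = 0 := by
          have e : (fun n : N' => (χ : G → ℂ) ((n : H) : G)) =
              classInner (fun n : N => (χ : G → ℂ) n) (θ : N → ℂ) • (θ' : N' → ℂ) :=
            funext fun n => congrFun hχN (eN n)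
          rw [e, CharCore.classInner_smul_left,
            CharCore.classInner_irr_of_ne (Ne.symm hne), mul_zero]
        choose k hk using fun β' : IrrCharacter H => CharCore.IsCharacter.exists_classInner_irr_eq_natCast
          (CharCore.isCharacter_restrict (CharCore.irr_isCharacter β') N') φ
        have e : (fun n : N' => (χ : G → ℂ) ((n : H) : G)) =
            ∑ β' : IrrCharacter H, (m β' : ℂ) • (fun n : N' => (β' : H → ℂ) n) := by
          funext n
          have := congrFun hm (n : H)
          simpa [Finset.sum_apply] using this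
        rw [e, CharCore.classInner_sum_left] at hcz
        simp only [CharCore.classInner_smul_left, hk] at hcz
        have hz : ∑ β', m β' * k β' = 0 := by exact_mod_cast hcz
        have := (Finset.sum_eq_zero_iff.mp hz) β (Finset.mem_univ _)
        refine hφ ?_
        rw [hk, (mul_eq_zero.mp this).resolve_left h0.ne', Nat.cast_zero]
      obtain ⟨γ, -, hγ, heq, -⟩ := CharDeep.Ext.exists_gallagher hψ hψirr β.2 hne
      exact ⟨γ, hγ, by rw [← heq]⟩
    choose γ hγ hγe using hβ
    refine ⟨∑ β, (m β : ℂ) * γ β ⟨g, hgH⟩, fun n => ?_⟩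
    have h1 := congrFun hm ⟨(n : G) * g, hmemH n⟩
    simp only [Finset.sum_apply, Pi.smul_apply, smul_eq_mul] at h1
    rw [hψG, Finset.sum_mul, h1]
    refine Finset.sum_congr rfl fun β _ => ?_
    have h2 := congrFun (hγe β) ⟨(n : G) * g, hmemH n⟩
    simp only [Pi.smul_apply, Pi.mul_apply, smul_eq_mul] at h2
    have h3 : γ β ⟨(n : G) * g, hmemH n⟩ = γ β ⟨g, hgH⟩ :=
      hγ β ⟨⟨(n : G), hNH n.2⟩, n.2⟩ ⟨g, hgH⟩
    rw [h2, h3, mul_assoc]

/-- Bessel's inequality for the irreducible characters. -/
theorem sum_normSq_le (f : G → ℂ) (hf : IsClassFunction G f) (s : Finset (IrrCharacter G)) :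
    ∑ χ ∈ s, Complex.normSq (classInner f χ) ≤ (∑ x : G, Complex.normSq (f x)) / Nat.card G := by
  classical
  have h : ((∑ χ : IrrCharacter G, Complex.normSq (classInner f χ) : ℝ) : ℂ) =
      (((∑ x : G, Complex.normSq (f x)) / Nat.card G : ℝ) : ℂ) := by
    push_cast
    simp only [← Complex.mul_conj]
    rw [← CharCore.classInner_eq_sum hf hf, CharCore.classInner_def, div_eq_inv_mul]
  rw [← Complex.ofReal_injective h]
  exact Finset.sum_le_sum_of_subset_of_nonneg (Finset.subset_univ s)
    fun χ _ _ => Complex.normSq_nonneg _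

/-- The bound on one coset. -/
theorem coset_le (θ : IrrCharacter N) (hinv : CharDeep.Ext.Inv N (θ : N → ℂ)) (g : G)
    (s : Finset (IrrCharacter G)) (hs : ∀ χ ∈ s, IsConstituent χ θ) :
    ∑ χ ∈ s, ∑ n : N, Complex.normSq ((χ : G → ℂ) ((n : G) * g)) ≤
      (Nat.card N : ℝ) * Nat.card (Subgroup.centralizer ({(g : G ⧸ N)} : Set (G ⧸ N))) := by
  classical
  obtain ⟨ψ, hψn, hψ⟩ := exists_factor N θ hinv g
  set π := QuotientGroup.mk' N with hπ
  let Φ : G → ℂ := fun x => if π x = π g then ψ x else 0
  let f : G → ℂ := fun x => ∑ h : G, Φ (h * x * h⁻¹)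
  have hf : IsClassFunction G f := by
    intro x c
    exact Fintype.sum_equiv (Equiv.mulRight c) _ _ fun h => by
      congr 1
      simp only [Equiv.coe_mulRight]
      group
  -- the coset
  have hcoset : ∀ F : G → ℂ, ∑ x : G, (if π x = π g then F x else 0) = ∑ n : N, F ((n : G) * g) := by
    intro F
    rw [← Finset.sum_filter]
    refine (Finset.sum_bij (fun (n : N) _ => (n : G) * g) (fun n _ => ?_) (fun a _ b _ e => ?_)
      (fun x hx => ?_) fun n _ => rfl).symm
    · rw [Finset.mem_filter]
      refine ⟨Finset.mem_univ _, ?_⟩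
      rw [map_mul, show π (n : G) = 1 from (QuotientGroup.eq_one_iff _).mpr n.2, one_mul]
    · exact Subtype.ext (mul_right_cancel e)
    · rw [Finset.mem_filter] at hx
      refine ⟨⟨x * g⁻¹, ?_⟩, Finset.mem_univ _, inv_mul_cancel_right x g⟩
      rw [← QuotientGroup.eq_one_iff]
      show π (x * g⁻¹) = 1
      rw [map_mul, map_inv, hx.2, mul_inv_cancel]
  -- inner products
  have hinner : ∀ χ : IrrCharacter G,
      classInner f χ = ∑ n : N, ψ ((n : G) * g) * conj ((χ : G → ℂ) ((n : G) * g)) := by
    intro χ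
    rw [CharCore.classInner_def]
    have h1 : ∀ h : G, ∑ x : G, Φ (h * x * h⁻¹) * conj ((χ : G → ℂ) x) =
        ∑ n : N, ψ ((n : G) * g) * conj ((χ : G → ℂ) ((n : G) * g)) := by
      intro h
      rw [← hcoset (fun x => ψ x * conj ((χ : G → ℂ) x))]
      refine Fintype.sum_equiv (MulAut.conj h).toEquiv _ _ fun x => ?_
      simp only [Φ, MulEquiv.toEquiv_eq_coe, MulEquiv.coe_toEquiv, MulAut.conj_apply, ite_mul,
        zero_mul, CharCore.irr_isClassFunction χ x h]
    simp only [f, Finset.sum_mul]
    rw [Finset.sum_comm, Finset.sum_congr rfl fun h _ => h1 h, Finset.sum_const, Finset.card_univ,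
      nsmul_eq_mul, Fintype.card_eq_nat_card, inv_mul_cancel_left₀ (Nat.cast_ne_zero.mpr Nat.card_pos.ne')]
  set D := Nat.card N * Nat.card (Subgroup.centralizer ({(g : G ⧸ N)} : Set (G ⧸ N))) with hD
  have hsupp : ∀ x : G, (Finset.univ.filter fun h : G => π (h * x * h⁻¹) = π g).card ≤ D := by
    intro x
    set T := Finset.univ.filter fun h : G => π (h * x * h⁻¹) = π g with hT
    rcases T.eq_empty_or_nonempty with he | ⟨h₀, hh₀⟩
    · simp [he]
    rw [hT, Finset.mem_filter] at hh₀
    let C := (Subgroup.centralizer ({(g : G ⧸ N)} : Set (G ⧸ N))).comap π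
    have hC : Nat.card C = D := by
      rw [hD, ← Subgroup.card_mul_index (N.subgroupOf C),
        Nat.card_congr (Subgroup.subgroupOfEquivOfLe (show N ≤ C from fun n hn => by
          show π n ∈ Subgroup.centralizer _
          rw [show π n = 1 from (QuotientGroup.eq_one_iff n).mpr hn]
          exact one_mem _)).toEquiv]
      congr 1
      show N.relIndex C = _
      rw [show N.relIndex C = π.ker.relIndex C from
        congrArg (·.relIndex C) (QuotientGroup.ker_mk' N).symm, Subgroup.relIndex_ker,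
        Subgroup.map_comap_eq_self_of_surjective (QuotientGroup.mk'_surjective N)]
    rw [← hC, ← Nat.card_eq_finsetCard]
    refine Nat.card_le_card_of_injective (fun h => (⟨(h : G) * h₀⁻¹, ?_⟩ : C)) fun a b e =>
      Subtype.ext (mul_right_cancel (congrArg Subtype.val e))
    have hh := (Finset.mem_filter.mp h.2).2
    show π ((h : G) * h₀⁻¹) ∈ Subgroup.centralizer ({π g} : Set (G ⧸ N))
    rw [Subgroup.mem_centralizer_singleton_iff]
    have h0 := hh₀.2
    simp only [map_mul, map_inv] at hh h0 ⊢
    calc π (h : G) * (π h₀)⁻¹ * π g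
        = π (h : G) * (π h₀)⁻¹ * (π h₀ * π x * (π h₀)⁻¹) := by rw [h0]
      _ = π (h : G) * π x * (π (h : G))⁻¹ * (π (h : G) * (π h₀)⁻¹) := by group
      _ = π g * (π (h : G) * (π h₀)⁻¹) := by rw [hh]
  have hnorm : ∑ x : G, Complex.normSq (f x) ≤ (D : ℝ) * (Nat.card G * Nat.card N) := by
    have h1 : ∀ x, Complex.normSq (f x) ≤ (D : ℝ) * ∑ h : G, Complex.normSq (Φ (h * x * h⁻¹)) := by
      intro x
      set T := Finset.univ.filter fun h : G => π (h * x * h⁻¹) = π g with hT
      have hfT : f x = ∑ h ∈ T, Φ (h * x * h⁻¹) := (Finset.sum_subset (Finset.subset_univ T)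
        fun h _ hh => if_neg fun e => hh (Finset.mem_filter.mpr ⟨Finset.mem_univ _, e⟩)).symm
      have h2 : ‖f x‖ ^ 2 ≤ (T.card : ℝ) * ∑ h ∈ T, ‖Φ (h * x * h⁻¹)‖ ^ 2 := by
        rw [hfT]
        exact (pow_le_pow_left₀ (norm_nonneg _) (norm_sum_le _ _) 2).trans sq_sum_le_card_mul_sum_sq
      simp only [Complex.normSq_eq_norm_sq]
      refine h2.trans (mul_le_mul (Nat.cast_le.mpr (hsupp x))
        (Finset.sum_le_sum_of_subset_of_nonneg (Finset.subset_univ T) fun h _ _ => sq_nonneg _)
        (Finset.sum_nonneg fun h _ => sq_nonneg _) (Nat.cast_nonneg _))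
    refine (Finset.sum_le_sum fun x _ => h1 x).trans ?_
    rw [← Finset.mul_sum]
    refine mul_le_mul_of_nonneg_left (le_of_eq ?_) (Nat.cast_nonneg _)
    rw [Finset.sum_comm]
    have h3 : ∀ h : G, ∑ x : G, Complex.normSq (Φ (h * x * h⁻¹)) = (Nat.card N : ℝ) := by
      intro h
      rw [← hψn]
      apply Complex.ofReal_injective
      push_cast
      rw [← hcoset (fun x => (Complex.normSq (ψ x) : ℂ))]
      exact Fintype.sum_equiv (MulAut.conj h).toEquiv _ _ fun x => by
        simp only [Φ, MulEquiv.toEquiv_eq_coe, MulEquiv.coe_toEquiv, MulAut.conj_apply]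
        split_ifs <;> simp_all
    rw [Finset.sum_congr rfl fun h _ => h3 h, Finset.sum_const, Finset.card_univ, nsmul_eq_mul,
      Fintype.card_eq_nat_card]
  have hB := sum_normSq_le f hf s
  have hkey : ∀ χ ∈ s, Complex.normSq (classInner f χ) =
      (Nat.card N : ℝ) * ∑ n : N, Complex.normSq ((χ : G → ℂ) ((n : G) * g)) := by
    intro χ hχ
    obtain ⟨a, ha⟩ := hψ χ (hs χ hχ)
    have hi : classInner f χ = conj a * ((Nat.card N : ℝ) : ℂ) := by
      rw [hinner, ← hψn]
      push_cast
      rw [Finset.mul_sum]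
      exact Finset.sum_congr rfl fun n _ => by rw [ha n, ← Complex.mul_conj, map_mul]; ring
    rw [hi, map_mul, Complex.normSq_conj, Complex.normSq_ofReal,
      Finset.sum_congr rfl fun n _ => by rw [ha n, map_mul], ← Finset.mul_sum, hψn]
    ring
  rw [Finset.sum_congr rfl hkey, ← Finset.mul_sum] at hB
  have hN0 : (0 : ℝ) < Nat.card N := Nat.cast_pos.mpr Nat.card_pos
  have hG0 : (0 : ℝ) < Nat.card G := Nat.cast_pos.mpr Nat.card_pos
  refine le_of_mul_le_mul_left (hB.trans ((div_le_iff₀ hG0).mpr (hnorm.trans (le_of_eq ?_)))) hN0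
  rw [hD]
  push_cast
  ring

/-- At most as many irreducible characters lie over an invariant character of `N` as `G/N` has
classes. -/
theorem card_over_le (θ : IrrCharacter N) (hinv : CharDeep.Ext.Inv N (θ : N → ℂ)) :
    Nat.card {χ : IrrCharacter G // IsConstituent χ θ} ≤ Nat.card (ConjClasses (G ⧸ N)) := by
  classical
  haveI : Fintype (G ⧸ N) := Fintype.ofFinite _
  set s := Finset.univ.filter fun χ : IrrCharacter G => IsConstituent χ θ with hs
  rw [Nat.card_eq_fintype_card, Fintype.card_subtype, ← hs]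
  have h1 : (s.card : ℝ) * Nat.card G = ∑ x : G, ∑ χ ∈ s, Complex.normSq ((χ : G → ℂ) x) := by
    rw [Finset.sum_comm]
    have : ∀ χ : IrrCharacter G, ∑ x : G, Complex.normSq ((χ : G → ℂ) x) = (Nat.card G : ℝ) := by
      intro χ
      apply Complex.ofReal_injective
      have h := CharCore.classInner_irr_self χ
      rw [CharCore.classInner_def, inv_mul_eq_one₀ (Nat.cast_ne_zero.mpr Nat.card_pos.ne')] at h
      push_cast
      simp only [← Complex.mul_conj]
      exact h.symm
    rw [Finset.sum_congr rfl fun χ _ => this χ, Finset.sum_const, nsmul_eq_mul]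
  let e := Subgroup.groupEquivQuotientProdSubgroup (s := N)
  have h2 : ∑ x : G, ∑ χ ∈ s, Complex.normSq ((χ : G → ℂ) x) ≤
      (Nat.card N : ℝ) * ∑ c : G ⧸ N, (Nat.card (Subgroup.centralizer ({c} : Set (G ⧸ N))) : ℝ) := by
    rw [← Finset.sum_fiberwise Finset.univ (fun x : G => (x : G ⧸ N)), Finset.mul_sum]
    refine Finset.sum_le_sum fun c _ => ?_
    induction c using QuotientGroup.induction_on with
    | _ g =>
      refine le_trans (le_of_eq ?_) (coset_le N θ hinv g s fun χ hχ => (Finset.mem_filter.mp hχ).2)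
      rw [Finset.sum_comm]
      refine Finset.sum_congr rfl fun χ _ => ?_
      refine (Finset.sum_bij (fun (n : N) _ => (n : G) * g) (fun n _ => ?_) (fun a _ b _ e => ?_)
        (fun x hx => ?_) fun n _ => rfl).symm
      · rw [Finset.mem_filter]
        refine ⟨Finset.mem_univ _, ?_⟩
        rw [QuotientGroup.mk_mul, (QuotientGroup.eq_one_iff _).mpr n.2, one_mul]
      · exact Subtype.ext (mul_right_cancel e)
      · rw [Finset.mem_filter] at hx
        refine ⟨⟨x * g⁻¹, ?_⟩, Finset.mem_univ _, inv_mul_cancel_right x g⟩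
        rw [← QuotientGroup.eq_one_iff, QuotientGroup.mk_mul, QuotientGroup.mk_inv, hx.2,
          mul_inv_cancel]
  have h3 : ∑ c : G ⧸ N, Nat.card (Subgroup.centralizer ({c} : Set (G ⧸ N))) =
      Nat.card (ConjClasses (G ⧸ N)) * Nat.card (G ⧸ N) := by
    rw [← card_comm_eq_card_conjClasses_mul_card,
      Nat.card_congr (Equiv.subtypeProdEquivSigmaSubtype fun a b : G ⧸ N => Commute a b), Nat.card_sigma]
    refine Finset.sum_congr rfl fun c _ => Nat.card_congr (Equiv.subtypeEquivRight fun b => ?_)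
    rw [Subgroup.mem_centralizer_singleton_iff]
    exact ⟨fun h => h.symm, fun h => h.symm⟩
  have h4 : Nat.card N * Nat.card (G ⧸ N) = Nat.card G := by
    rw [mul_comm, ← Subgroup.card_eq_card_quotient_mul_card_subgroup]
  have h5 : (s.card : ℝ) * Nat.card G ≤ (Nat.card (ConjClasses (G ⧸ N)) : ℝ) * Nat.card G := by
    rw [h1]
    refine h2.trans (le_of_eq ?_)
    rw [← Nat.cast_sum, h3, ← h4]
    push_cast
    ring
  exact_mod_cast le_of_mul_le_mul_right h5 (Nat.cast_pos.mpr Nat.card_pos)

end Cfsg.Agent.KB64
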